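import Mathlib
import Cfsg.Agent.Lib.Block.SmallIndex
import Cfsg.Agent.Lib.Transfer.SylowNumber
import Cfsg.Agent.S4343

/-!
Sylow subgroups meeting with index `p`.
-/

set_option autoImplicit false

namespace Cfsg.Agent.Block.SmallOrd

universe u

variable {G : Type u} [Group G] [Finite G] {p : ℕ} [hp : Fact p.Prime]

/-- The Sylow subgroups meeting `P` in a subgroup of index `p` in `P`. -/
def near (P : Sylow p G) : Set (Sylow p G) :=
  {Q | ((P : Subgroup G) ⊓ (Q : Subgroup G)).relIndex (P : Subgroup G) = p}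

/-- The Sylow number counts the near Sylow subgroups modulo `p²`. -/
theorem card_modEq_near (P : Sylow p G) : Nat.card (Sylow p G) ≡ 1 + (near P).ncard [MOD p ^ 2] := by
  classical
  haveI := Fintype.ofFinite (Sylow p G)
  obtain ⟨a, ha⟩ := P.isPGroup'.exists_card_eq
  have horb : ∀ Q : Sylow p G, ∃ j, ((P : Subgroup G) ⊓ (Q : Subgroup G)).relIndex (P : Subgroup G) = p ^ j := by
    intro Q
    have h1 : ((P : Subgroup G) ⊓ (Q : Subgroup G)).relIndex (P : Subgroup G) ∣ p ^ a := by
      rw [← ha]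
      exact Subgroup.index_dvd_card _
    obtain ⟨j, -, hj⟩ := (Nat.dvd_prime_pow hp.out).1 h1
    exact ⟨j, hj⟩
  have hinv : ∀ Q Q' : Sylow p G, Q' ∈ MulAction.orbit (P : Subgroup G) Q →
      ((P : Subgroup G) ⊓ (Q' : Subgroup G)).relIndex (P : Subgroup G) =
        ((P : Subgroup G) ⊓ (Q : Subgroup G)).relIndex (P : Subgroup G) := by
    intro Q Q' h
    rw [← Transfer.card_orbit_sylow, ← Transfer.card_orbit_sylow, MulAction.orbit_eq_iff.2 h]
  set S : Set (Sylow p G) :=
    {Q | Q ≠ P ∧ ((P : Subgroup G) ⊓ (Q : Subgroup G)).relIndex (P : Subgroup G) ≠ p} with hS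
  have hone : ∀ Q : Sylow p G, ((P : Subgroup G) ⊓ (Q : Subgroup G)).relIndex (P : Subgroup G) = 1 → Q = P :=
    fun Q h => Sylow.ext (P.3 Q.isPGroup' ((Subgroup.relIndex_eq_one.1 h).trans inf_le_right))
  have hPP : ((P : Subgroup G) ⊓ (P : Subgroup G)).relIndex (P : Subgroup G) = 1 := by
    rw [inf_idem, Subgroup.relIndex_self]
  obtain ⟨t, ht⟩ : p ^ 2 ∣ S.ncard := by
    have hgood : ∀ Q ∈ S, ∀ Q' ∈ MulAction.orbit (P : Subgroup G) Q, Q' ∈ S := by
      rintro Q ⟨hQ, hQp⟩ Q' hQ'
      refine ⟨fun e => hQ (hone Q ?_), ?_⟩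
      · rw [← hinv Q Q' hQ', e, hPP]
      · rw [hinv Q Q' hQ']; exact hQp
    -- every orbit in `S` has length divisible by `p²`
    rw [Set.ncard_eq_toFinset_card']
    have hpart : S.toFinset = (S.toFinset.image fun Q => (MulAction.orbit (P : Subgroup G) Q).toFinset).biUnion id := by
      ext Q
      simp only [Finset.mem_biUnion, Finset.mem_image, id, Set.mem_toFinset]
      constructor
      · intro hQ
        exact ⟨_, ⟨Q, hQ, rfl⟩, Set.mem_toFinset.2 (MulAction.mem_orbit_self Q)⟩
      · rintro ⟨_, ⟨R, hR, rfl⟩, hQ⟩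
        exact hgood R hR Q (Set.mem_toFinset.1 hQ)
    rw [hpart, Finset.card_biUnion]
    · refine Finset.dvd_sum fun O hO => ?_
      obtain ⟨Q, hQ, rfl⟩ := Finset.mem_image.1 hO
      rw [Set.mem_toFinset] at hQ
      rw [id, ← Set.ncard_eq_toFinset_card', ← Nat.card_coe_set_eq, Transfer.card_orbit_sylow]
      obtain ⟨j, hj⟩ := horb Q
      rw [hj]
      refine pow_dvd_pow _ ?_
      rcases hQ with ⟨hQ1, hQ2⟩
      rcases j with _ | _ | j
      · exact absurd (hone Q (by rw [hj, pow_zero])) hQ1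
      · exact absurd (by rw [hj, pow_one]) hQ2
      · omega
    · intro O hO O' hO' hne
      obtain ⟨Q, -, rfl⟩ := Finset.mem_image.1 hO
      obtain ⟨Q', -, rfl⟩ := Finset.mem_image.1 hO'
      rw [Function.onFun, id, id, Finset.disjoint_left]
      intro R h h'
      rw [Set.mem_toFinset] at h h'
      exact hne (Set.toFinset_congr (by rw [← MulAction.orbit_eq_iff.2 h, ← MulAction.orbit_eq_iff.2 h']))
  have hcount : Nat.card (Sylow p G) = 1 + (near P).ncard + S.ncard := by
    have hPn : P ∉ near P := fun h => by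
      have h' : ((P : Subgroup G) ⊓ (P : Subgroup G)).relIndex (P : Subgroup G) = p := h
      rw [hPP] at h'
      exact hp.out.one_lt.ne h'
    have hu : (Set.univ : Set (Sylow p G)) = insert P (near P ∪ S) := by
      ext Q
      simp only [Set.mem_univ, Set.mem_insert_iff, Set.mem_union, true_iff]
      by_cases hQ : Q = P
      · exact Or.inl hQ
      by_cases hQp : ((P : Subgroup G) ⊓ (Q : Subgroup G)).relIndex (P : Subgroup G) = p
      · exact Or.inr (Or.inl hQp)
      · exact Or.inr (Or.inr ⟨hQ, hQp⟩)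
    have hd : Disjoint (near P) S := Set.disjoint_left.2 fun Q h h' => h'.2 h
    rw [← Set.ncard_univ, hu, Set.ncard_insert_of_notMem (by
      rintro (h | h)
      · exact hPn h
      · exact h.1 rfl) (Set.toFinite _), Set.ncard_union_eq hd (Set.toFinite _) (Set.toFinite _)]
    ring
  rw [hcount, ht]
  exact (Nat.modEq_iff_dvd' (by omega)).2 ⟨t, by omega⟩ |>.symm

/-- The intersection with a near Sylow subgroup is normal in both. -/
theorem near_normalizes {P Q : Sylow p G} (hQ : Q ∈ near P) :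
    (P : Subgroup G) ≤ Subgroup.normalizer ((((P : Subgroup G) ⊓ (Q : Subgroup G)) : Subgroup G) : Set G) ∧
      (Q : Subgroup G) ≤ Subgroup.normalizer ((((P : Subgroup G) ⊓ (Q : Subgroup G)) : Subgroup G) : Set G) ∧
      P ≠ Q ∧ Nat.card ((P : Subgroup G) ⊓ (Q : Subgroup G) : Subgroup G) * p = Nat.card P := by
  have hcard : Nat.card ((P : Subgroup G) ⊓ (Q : Subgroup G) : Subgroup G) * p = Nat.card P := by
    have h1 := (((P : Subgroup G) ⊓ (Q : Subgroup G)).subgroupOf (P : Subgroup G)).card_mul_index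
    rw [Nat.card_congr (Subgroup.subgroupOfEquivOfLe inf_le_left).toEquiv] at h1
    rw [← h1]
    congr 1
    exact hQ.symm
  have key : ∀ X : Sylow p G, ((P : Subgroup G) ⊓ (Q : Subgroup G)) ≤ (X : Subgroup G) →
      (X : Subgroup G) ≤ Subgroup.normalizer ((((P : Subgroup G) ⊓ (Q : Subgroup G)) : Subgroup G) : Set G) := by
    intro X hX
    have hXc : Nat.card (X : Subgroup G) = Nat.card (P : Subgroup G) := by
      rw [X.card_eq_multiplicity, P.card_eq_multiplicity]
    obtain ⟨a, ha⟩ := P.isPGroup'.exists_card_eq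
    have ha0 : a ≠ 0 := fun e => by
      rw [ha, e, pow_zero] at hcard
      exact hp.out.one_lt.ne' (Nat.eq_one_of_mul_eq_one_left hcard)
    have : (((P : Subgroup G) ⊓ (Q : Subgroup G)).subgroupOf (X : Subgroup G)).Normal := by
      apply Subgroup.normal_of_index_eq_minFac_card
      rw [hXc, ha, Nat.Prime.pow_minFac hp.out ha0]
      have h1 := (((P : Subgroup G) ⊓ (Q : Subgroup G)).subgroupOf (X : Subgroup G)).card_mul_index
      rw [Nat.card_congr (Subgroup.subgroupOfEquivOfLe hX).toEquiv, hXc, show Nat.card (P : Subgroup G) = Nat.card P from rfl, ← hcard] at h1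
      exact Nat.eq_of_mul_eq_mul_left Nat.card_pos h1
    exact (Subgroup.normal_subgroupOf_iff_le_normalizer hX).1 this
  refine ⟨key P inf_le_left, key Q inf_le_right, fun e => ?_, hcard⟩
  subst e
  have h1 : ((P : Subgroup G) ⊓ (P : Subgroup G)).relIndex (P : Subgroup G) = p := hQ
  rw [inf_idem, Subgroup.relIndex_self] at h1
  exact hp.out.one_lt.ne h1

omit [Finite G] in
/-- Sylow subgroups inside a subgroup whose Sylow number can only be one coincide. -/
theorem eq_of_le_of_count [Finite G] {M : Subgroup G} {P Q : Sylow p G} (hP : (P : Subgroup G) ≤ M)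
    (hQ : (Q : Subgroup G) ≤ M) {k : ℕ} (hk : Nat.card M = Nat.card P * k)
    (hone : ∀ d, d ∣ k → d % p = 1 → d = 1) : P = Q := by
  have hnum : Nat.card (Sylow p M) = 1 := by
    refine hone _ ?_ ?_
    · have h1 := Sylow.card_dvd_index (P.subtype hP)
      have h2 := ((P.subtype hP : Sylow p M) : Subgroup M).card_mul_index
      rw [Sylow.coe_subtype, Nat.card_congr (Subgroup.subgroupOfEquivOfLe hP).toEquiv, hk] at h2
      rw [Sylow.coe_subtype] at h1
      rwa [← Nat.eq_of_mul_eq_mul_left Nat.card_pos h2]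
    · have := card_sylow_modEq_one p M
      rwa [Nat.ModEq, Nat.one_mod_eq_one.2 hp.out.one_lt.ne'] at this
  haveI := (Nat.card_eq_one_iff_unique.1 hnum).1
  exact Sylow.subtype_injective (hP := hP) (hQ := hQ) (Subsingleton.elim _ _)

omit [Finite G] in
/-- The same in a subgroup of twice odd order. -/
theorem eq_of_le_of_twice_odd [Finite G] (hp2 : p ≠ 2) {M : Subgroup G} {P Q : Sylow p G}
    (hP : (P : Subgroup G) ≤ M) (hQ : (Q : Subgroup G) ≤ M) {k : ℕ} (hk : Nat.card M = 2 * (Nat.card P * k))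
    (hodd : ¬ 2 ∣ k) (hone : ∀ d, d ∣ k → d % p = 1 → d = 1) : P = Q := by
  classical
  haveI : Fact (Nat.Prime 2) := ⟨Nat.prime_two⟩
  have hPo : ¬ 2 ∣ Nat.card P := fun h => by
    obtain ⟨a, ha⟩ := P.isPGroup'.exists_card_eq
    rw [show Nat.card P = Nat.card (P : Subgroup G) from rfl, ha] at h
    exact hp2 ((Nat.prime_dvd_prime_iff_eq Nat.prime_two hp.out).1 (Nat.prime_two.dvd_of_dvd_pow h)).symm
  have hmo : ¬ 2 ∣ Nat.card P * k := fun h => (Nat.prime_two.dvd_mul.1 h).elim hPo hodd
  obtain ⟨T⟩ : Nonempty (Sylow 2 M) := inferInstance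
  have hT : Nat.card (T : Subgroup M) = 2 := by
    rw [T.card_eq_multiplicity, hk, Nat.factorization_mul (by norm_num) (fun e => hmo (by rw [e]; exact dvd_zero 2)),
      Finsupp.add_apply, Nat.prime_two.factorization_self, Nat.factorization_eq_zero_of_not_dvd hmo,
      add_zero, pow_one]
  haveI : IsCyclic (T : Subgroup M) := isCyclic_of_prime_card hT
  have hle : Subgroup.normalizer ((T : Subgroup M) : Set M) ≤
      Subgroup.centralizer ((T : Subgroup M) : Set M) := IsCyclic.normalizer_le_centralizer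
    ((Nat.minFac_eq_two_iff _).2 (hk ▸ dvd_mul_right 2 _)) inferInstance
  set H := (MonoidHom.transferSylow T hle).ker with hH
  have hc := (MonoidHom.ker_transferSylow_isComplement' T hle).card_mul
  rw [hT, hk, mul_comm] at hc
  have hHc : Nat.card H = Nat.card P * k := Nat.eq_of_mul_eq_mul_left (by norm_num) hc
  have hHi : H.index = 2 := by
    have := H.card_mul_index
    rw [hHc, hk, mul_comm 2] at this
    exact Nat.eq_of_mul_eq_mul_left (Nat.pos_of_ne_zero fun e => hmo (by rw [e]; exact dvd_zero 2)) this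
  have hin : ∀ X : Sylow p G, (hX : (X : Subgroup G) ≤ M) → (X : Subgroup G) ≤ H.map M.subtype := by
    intro X hX x hx
    have h2 := Subgroup.mul_self_mem_of_index_two hHi (⟨x, hX hx⟩ : M)
    have hco : (2 : ℕ).Coprime (orderOf (⟨x, hX hx⟩ : M)) := by
      rw [Subgroup.orderOf_mk, Nat.prime_two.coprime_iff_not_dvd]
      intro h
      refine hPo ?_
      rw [show Nat.card P = Nat.card (P : Subgroup G) from rfl, P.card_eq_multiplicity,
        ← X.card_eq_multiplicity]
      exact h.trans (Subgroup.orderOf_dvd_natCard _ hx)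
    obtain ⟨l, hl⟩ := exists_pow_eq_self_of_coprime hco
    refine ⟨⟨x, hX hx⟩, ?_, rfl⟩
    rw [← hl, sq]
    exact pow_mem h2 l
  refine eq_of_le_of_count (hin P hP) (hin Q hQ) (k := k) ?_ hone
  rw [Subgroup.card_map_of_injective M.subtype_injective, hHc]

end Cfsg.Agent.Block.SmallOrd
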