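import Mathlib

/-!
A pruned exhaustive search over multisets drawn from a list of signed degrees.
-/

set_option autoImplicit false

namespace Cfsg.Agent.Block.SmallOrd

/-- A running sum: the signed sum, the sum of squares, the number of degrees outside the wanted set. -/
abbrev W := ℤ × ℕ × ℕ

/-- Every multiset of size `j` from the list, added to `acc`, satisfies `f`; a sum of squares above `n` is
not explored further. -/
def search (n : ℕ) (f : W → Bool) : List W → ℕ → W → Bool
  | [], 0, acc => f acc
  | [], _ + 1, _ => true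
  | v :: vs, j, acc => decide (n < acc.2.1) ||
      (List.range (j + 1)).all fun i => search n f vs (j - i) (acc + i • v)

theorem search_sound {ι : Type*} {n : ℕ} (f : W → Bool) (hf : ∀ v : W, n < v.2.1 → f v = true) :
    ∀ (vs : List W) (j : ℕ) (acc : W), search n f vs j acc = true →
      ∀ (Z : Finset ι) (g : ι → W), Z.card = j → (∀ x ∈ Z, g x ∈ vs) →
        f (acc + ∑ x ∈ Z, g x) = true := by
  classical
  intro vs
  induction vs with
  | nil =>
    intro j acc h Z g hn hg
    obtain rfl : Z = ∅ := Finset.eq_empty_of_forall_notMem fun x hx => List.not_mem_nil (hg x hx)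
    simp at hn
    subst hn
    simpa [search] using h
  | cons v vs ih =>
    intro j acc h Z g hn hg
    rw [search, Bool.or_eq_true, decide_eq_true_iff, List.all_eq_true] at h
    rcases h with h | h
    · refine hf _ (lt_of_lt_of_le h ?_)
      simp only [Prod.snd_add, Prod.fst_add]
      exact Nat.le_add_right _ _
    set A := Z.filter fun x => g x = v with hA
    set B := Z.filter fun x => ¬ g x = v with hB
    have hcard : A.card + B.card = j := by
      rw [hA, hB, Finset.card_filter_add_card_filter_not, hn]
    have hj := ih (j - A.card) (acc + A.card • v) (h A.card (List.mem_range.2 (by omega))) B g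
      (by omega) fun x hx => by
        obtain ⟨hxZ, hxv⟩ := Finset.mem_filter.1 hx
        exact (List.mem_cons.1 (hg x hxZ)).resolve_left hxv
    rw [add_assoc] at hj
    rw [← Finset.sum_filter_add_sum_filter_not Z fun x => g x = v, ← hA, ← hB,
      Finset.sum_congr rfl (g := fun _ => v) fun x hx => (Finset.mem_filter.1 hx).2, Finset.sum_const]
    exact hj

/-- The possible degrees with their signs: divisors `d` below `B` with `d * d < n`, congruent to `±1` modulo
`p`, accepted by `pre`; with `big` they are at least `2p+1` resp. `3p-1`; `post` marks the wanted ones. -/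
def cands (n p B : ℕ) (big : Bool) (pre post : ℕ → Bool) : List W :=
  (List.range B).flatMap fun d =>
    if decide (2 ≤ d ∧ d * d < n) && n % d == 0 && pre d then
      (if d % p == 1 && (!big || decide (2 * p + 1 ≤ d)) then
        [((d : ℤ), d * d, if post d then 0 else 1)] else []) ++
      (if d % p == p - 1 && (!big || decide (3 * p - 1 ≤ d)) then
        [(-(d : ℤ), d * d, if post d then 0 else 1)] else [])
    else []

theorem mem_cands {n p B d : ℕ} {big : Bool} {pre post : ℕ → Bool} {s : ℤ}
    (hp : 2 < p) (hd2 : 2 ≤ d) (hdn : d * d < n) (hB : n ≤ B * B) (hdv : d ∣ n) (hpre : pre d = true)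
    (hs : s = 1 ∨ s = -1) (hcong : (d : ℤ) ≡ s [ZMOD p])
    (hbig : big = true → (d % p = 1 ∧ 2 * p + 1 ≤ d) ∨ (d % p = p - 1 ∧ 3 * p - 1 ≤ d)) :
    (s * (d : ℤ), d * d, if post d then 0 else 1) ∈ cands n p B big pre post := by
  have hdB : d < B := Nat.mul_self_lt_mul_self_iff.1 (lt_of_lt_of_le hdn hB)
  refine List.mem_flatMap.2 ⟨d, List.mem_range.2 hdB, ?_⟩
  rw [if_pos (by simp [hd2, hdn, hpre, Nat.mod_eq_zero_of_dvd hdv])]
  have hmod : ((s = 1 → d % p = 1) ∧ (s = -1 → d % p = p - 1)) := by
    refine ⟨?_, ?_⟩ <;> rintro rfl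
    · rw [show (1 : ℤ) = ((1 : ℕ) : ℤ) from rfl, Int.natCast_modEq_iff] at hcong
      unfold Nat.ModEq at hcong
      rw [hcong]
      exact Nat.mod_eq_of_lt (by omega)
    · have h1 : (d : ℤ) ≡ ((p - 1 : ℕ) : ℤ) [ZMOD p] := by
        refine hcong.trans (Int.modEq_iff_dvd.2 ⟨1, ?_⟩)
        push_cast [Nat.cast_sub (show 1 ≤ p by omega)]
        ring
      rw [Int.natCast_modEq_iff] at h1
      unfold Nat.ModEq at h1
      rw [h1]
      exact Nat.mod_eq_of_lt (by omega)
  rcases hs with rfl | rfl
  · refine List.mem_append_left _ ?_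
    have h1 := hmod.1 rfl
    rw [if_pos]
    · simp
    · cases big
      · simp [h1]
      · rcases hbig rfl with h | h
        · simp [h1, h.2]
        · omega
  · refine List.mem_append_right _ ?_
    have h1 := hmod.2 rfl
    rw [if_pos]
    · simp
    · cases big
      · simp [h1]
      · rcases hbig rfl with h | h
        · omega
        · simp [h1, h.2]

/-- The test for `1 < e < p - 1`. -/
def partTest (n p B e : ℕ) (big : Bool) (pre post : ℕ → Bool) : Bool :=
  search n (fun v => decide (n < v.2.1 + (p - 1) / e * (v.1.natAbs * v.1.natAbs)) ||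
      decide (v.1.natAbs < 2) || n % v.1.natAbs != 0 || !pre v.1.natAbs ||
      (v.1.natAbs % p != e % p && v.1.natAbs % p != p - e) ||
      (v.2.2 == 0 && post v.1.natAbs))
    (cands n p B big pre post) (e - 1) (1, 1, 0)

/-- The test for `e = p - 1`. -/
def fullTest (n p B : ℕ) (big : Bool) (pre post : ℕ → Bool) : Bool :=
  search n (fun v => decide (n < v.2.1) || v.1 != 0 || v.2.2 == 0)
    (cands n p B big pre post) (p - 1) (1, 1, 0)

/-- Either test. -/
def degTest (n p B e : ℕ) (big : Bool) (pre post : ℕ → Bool) : Bool :=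
  if e == p - 1 then fullTest n p B big pre post else partTest n p B e big pre post

end Cfsg.Agent.Block.SmallOrd
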