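import Mathlib
import Cfsg.Agent.Lib.Block.OrderPrimeCases
import Cfsg.Agent.Lib.Block.SmallOrd.Picks
import Cfsg.Agent.Lib.Fus.SmallOrders

/-!
The degrees in the principal block at a prime dividing the order of a simple group exactly, by exhaustive search.
-/

set_option autoImplicit false

namespace Cfsg.Agent.Block.SmallOrd

open scoped ComplexConjugate
open Cfsg Cfsg.Agent.Block Cfsg.Agent.Char

universe u

variable {G : Type u} [Group G] [Finite G]

/-- An element of prime order `p` with centralizer of order `p`: the degrees outside the principal block are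
divisible by `p`. -/
theorem dvd_deg_of_notMem {p : ℕ} [hp : Fact p.Prime] {M : Ideal AlgInt} (hM : IsPModular p M) {u : G}
    (hu : orderOf u = p) (hC : Nat.card (Subgroup.centralizer ({u} : Set G)) = p)
    (χ : IrrCharacter G) (hχ : χ ∉ principalBlock M G) : p ∣ charDegree (χ : G → ℂ) := by
  classical
  haveI := Fintype.ofFinite G
  have hpp : p.Prime := hp.out
  set C := Subgroup.centralizer ({u} : Set G) with hCdef
  have hcol := principal_column hM (z := u) ⟨1, by rw [hu, pow_one]⟩ (y := (1 : C))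
    (by rw [orderOf_one]; exact hpp.not_dvd_one)
  rw [principal_column_complement hM (K := (⊥ : Subgroup C))
      (by rw [Subgroup.card_bot]; exact hpp.not_dvd_one) (k := 1)
      (by rw [Subgroup.index_bot, hC, pow_one])
      (by rw [orderOf_one]; exact hpp.not_dvd_one),
    OneMemClass.coe_one, mul_one, hC, hpp.factorization_self, pow_one, finsum_mem_block] at hcol
  have hall := Cfsg.Agent.Char.sum_irr_mul_conj u u
  rw [if_pos (IsConj.refl _), hC, ← hcol,
    ← Finset.sum_filter_add_sum_filter_not Finset.univ (fun ξ => ξ ∈ principalBlock M G),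
    add_eq_left] at hall
  simp only [Complex.mul_conj] at hall
  have hall' : ∑ ξ ∈ Finset.univ.filter (fun ξ => ξ ∉ principalBlock M G),
      Complex.normSq ((ξ : G → ℂ) u) = 0 := by exact_mod_cast hall
  have h0 : (χ : G → ℂ) u = 0 := Complex.normSq_eq_zero.1
    ((Finset.sum_eq_zero_iff_of_nonneg fun ξ _ => Complex.normSq_nonneg _).1 hall' χ
      (Finset.mem_filter.2 ⟨Finset.mem_univ _, hχ⟩))
  have h1 := value_pPart_congr hM (irr_isChar χ) (g := u) (u := u) (v := 1) (mul_one u)
    (Commute.one_right u) (k := 1) (by rw [pow_one, ← hu, pow_orderOf_eq_one]) (one_mem _)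
  rw [h0, zero_sub, charDeg_spec'] at h1
  have h2 := ideal_neg h1
  rw [neg_neg] at h2
  exact Int.natCast_dvd_natCast.1 ((ideal_intCast_iff hM _).1 (by exact_mod_cast h2))

variable [IsSimpleGroup G]

/-- The principal block for `1 < e < p - 1`, with membership. -/
theorem data' {p : ℕ} [Fact p.Prime] {M : Ideal AlgInt} (hna : ¬ IsMulCommutative G) (hM : IsPModular p M)
    (hodd : p ≠ 2) (P : Sylow p G) (hP : Nat.card P = p) {e : ℕ}
    (he : (Subgroup.centralizer ((P : Subgroup G) : Set G)).relIndex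
      (Subgroup.normalizer ((P : Subgroup G) : Set G)) = e)
    (he1 : 1 < e) (hep : e ∣ p - 1) (hne : e ≠ p - 1) :
    ∃ (X : Finset (IrrCharacter G)) (y : IrrCharacter G) (s : IrrCharacter G → ℤ) (ε : ℤ),
      X.card + 1 = e ∧
      (∀ χ ∈ X, χ ≠ trivialIrr G ∧ (s χ = 1 ∨ s χ = -1) ∧
        (charDegree (χ : G → ℂ) : ℤ) ≡ s χ [ZMOD p] ∧
        ∀ v ∈ Subgroup.centralizer ((P : Subgroup G) : Set G), ¬ p ∣ orderOf v →
          MemLocalIdeal M ((χ : G → ℂ) v - (s χ : ℂ))) ∧
      y ≠ trivialIrr G ∧ (ε = 1 ∨ ε = -1) ∧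
      (charDegree (y : G → ℂ) : ℤ) ≡ ε * (e : ℤ) [ZMOD p] ∧
      ε * (charDegree (y : G → ℂ) : ℤ) = 1 + ∑ χ ∈ X, s χ * (charDegree (χ : G → ℂ) : ℤ) ∧
      1 + ∑ χ ∈ X, charDegree (χ : G → ℂ) ^ 2 + (p - 1) / e * charDegree (y : G → ℂ) ^ 2 ≤ Nat.card G ∧
      (∀ ξ ∈ principalBlock M G, ξ = trivialIrr G ∨ ξ ∈ X ∨
        charDegree (ξ : G → ℂ) = charDegree (y : G → ℂ)) ∧
      ∀ χ ∈ X, χ ∈ principalBlock M G := by
  classical
  have hp : p.Prime := Fact.out
  haveI := Fintype.ofFinite G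
  obtain ⟨X, Y, hXY, hdisj, hX, hY, s, ε, hdX, hε, hdY, hagree, hreg⟩ :=
    Cfsg.Agent.S4441.result p M hM hodd P hP e he
  set τ := trivialIrr G with hτ
  have hτB : τ ∈ principalBlock M G := trivial_mem_principalBlock hM
  have hτd : charDegree (τ : G → ℂ) = 1 := charDeg_trivial
  have hp3 : 3 ≤ p := by have := hp.two_le; omega
  have hτX : τ ∈ X := by
    rw [hXY] at hτB
    refine hτB.resolve_right fun h => ?_
    have h1 := hdY τ h
    rw [hτd, Nat.cast_one] at h1
    have he' : e + 1 ≤ p - 1 := by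
      have := Nat.le_of_dvd (by omega) hep
      omega
    rcases hε with rfl | rfl
    · rw [one_mul, Int.modEq_iff_dvd] at h1
      have := Int.le_of_dvd (by omega) h1
      omega
    · rw [Int.modEq_iff_dvd] at h1
      have h2 : (p : ℤ) ∣ (e : ℤ) + 1 := by
        have := dvd_neg.2 h1
        simpa [add_comm] using this
      have := Int.le_of_dvd (by omega) h2
      omega
  obtain ⟨hsτ, hsτd, -⟩ := hdX τ hτX
  have hsτ1 : s τ = 1 := by
    refine hsτ.resolve_right fun h => ?_
    rw [hτd, h, Nat.cast_one, Int.modEq_iff_dvd] at hsτd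
    have := Int.le_of_dvd (by omega) (dvd_neg.2 hsτd)
    omega
  obtain ⟨u₀, hu₀, hu₁⟩ : ∃ u ∈ (P : Subgroup G), u ≠ 1 := by
    refine (Subgroup.bot_or_exists_ne_one (P : Subgroup G)).resolve_left fun h => hp.one_lt.ne ?_
    rw [← hP, show Nat.card P = Nat.card (P : Subgroup G) from rfl, h, Subgroup.card_bot]
  have ht0 : 0 < (p - 1) / e := Nat.div_pos (Nat.le_of_dvd (by omega) hep) (by omega)
  rw [← hY, Nat.card_coe_set_eq, Set.ncard_eq_toFinset_card' Y] at ht0
  obtain ⟨y, hy⟩ := Finset.card_pos.1 ht0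
  rw [Set.mem_toFinset] at hy
  have hrel : ∀ g : G, ¬ p ∣ orderOf g →
      (ε : ℂ) * (y : G → ℂ) g = 1 + ∑ χ ∈ X.toFinset.erase τ, (s χ : ℂ) * (χ : G → ℂ) g := by
    intro g hg
    have h := hreg y hy g hg
    rw [finsum_mem_eq_toFinset_sum, ← Finset.add_sum_erase _ _ (Set.mem_toFinset.2 hτX), hsτ1] at h
    rw [h]
    simp [hτ, trivialIrr]
  have hcol : ∀ g : G, ¬ p ∣ orderOf g → 1 + ∑ χ ∈ X.toFinset.erase τ, Complex.normSq ((χ : G → ℂ) g) +
      (((p - 1) / e : ℕ) : ℝ) * Complex.normSq ((y : G → ℂ) g) ≤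
        (Nat.card (Subgroup.centralizer ({g} : Set G)) : ℝ) := by
    intro g hg
    have hd : Disjoint X.toFinset Y.toFinset := Set.disjoint_toFinset.2 hdisj
    refine le_trans (le_of_eq ?_) (OrdP.normSq_column (X.toFinset ∪ Y.toFinset) g)
    rw [Finset.sum_union hd, ← Finset.add_sum_erase _ _ (Set.mem_toFinset.2 hτX),
      Finset.sum_congr rfl (g := fun _ => Complex.normSq ((y : G → ℂ) g))
        fun χ (hχ : χ ∈ Y.toFinset) => by rw [hagree χ (Set.mem_toFinset.1 hχ) y hy g hg],
      Finset.sum_const, nsmul_eq_mul, ← Set.ncard_eq_toFinset_card', ← Nat.card_coe_set_eq, hY]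
    simp [hτ, trivialIrr]
  obtain ⟨hsum, hsz⟩ := OrdP.degree_data hrel hcol
  refine ⟨X.toFinset.erase τ, y, s, ε, ?_, fun χ hχ => ?_, ?_, hε, hdY y hy, hsum, hsz,
    fun ξ hξ => ?_, fun χ hχ => by
      rw [hXY]; exact Or.inl (Set.mem_toFinset.1 (Finset.mem_of_mem_erase hχ))⟩
  · rw [Finset.card_erase_of_mem (Set.mem_toFinset.2 hτX), ← Set.ncard_eq_toFinset_card',
      ← Nat.card_coe_set_eq, hX]
    omega
  · have hχX : χ ∈ X := Set.mem_toFinset.1 (Finset.mem_of_mem_erase hχ)
    obtain ⟨h1, h2, h3⟩ := hdX χ hχX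
    refine ⟨Finset.ne_of_mem_erase hχ, h1, h2, fun v hv hvr => ?_⟩
    refine OrdP.congr_of_value hM χ (u := u₀) ?_ (Subgroup.mem_centralizer_iff.1 hv u₀ hu₀) hvr
      (h3 u₀ hu₀ hu₁ v hv hvr)
    have := pow_card_eq_one' (x := (⟨u₀, hu₀⟩ : (P : Subgroup G)))
    rw [show Nat.card (P : Subgroup G) = p from hP] at this
    exact congrArg Subtype.val this
  · intro h
    exact Set.disjoint_left.1 hdisj hτX (h ▸ hy)
  · rw [hXY] at hξ
    rcases hξ with hξ | hξ
    · by_cases h : ξ = τ
      · exact Or.inl h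
      · exact Or.inr (Or.inl (Finset.mem_erase.2 ⟨h, Set.mem_toFinset.2 hξ⟩))
    · refine Or.inr (Or.inr (Nat.cast_injective (R := ℂ) ?_))
      rw [← charDeg_spec', ← charDeg_spec', hagree ξ hξ y hy 1 (by rw [orderOf_one]; exact hp.not_dvd_one)]

/-- The degrees in the principal block satisfy `post` if the search says so; moreover the block is not
reduced to the trivial character. -/
theorem block_degrees (hna : ¬ IsMulCommutative G) {n p m c e B : ℕ} [hp : Fact p.Prime]
    {M : Ideal AlgInt} (hM : IsPModular p M) (h : Nat.card G = n)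
    (hpm : ¬ p ∣ m) (hp2 : p ≠ 2) (P : Sylow p G) (hP : Nat.card P = p) (hcm : c ∣ m)
    (he : (Subgroup.centralizer ((P : Subgroup G) : Set G)).relIndex
      (Subgroup.normalizer ((P : Subgroup G) : Set G)) = e) (he1 : 1 < e) (hep : e ∣ p - 1)
    (hC : Nat.card (Subgroup.centralizer ((P : Subgroup G) : Set G)) = p * c)
    (pre post : ℕ → Bool) (hpre : ∀ χ : IrrCharacter G, χ ≠ trivialIrr G → pre (charDegree (χ : G → ℂ)) = true)
    (hB : n ≤ B * B) (ht : degTest n p B e (c != 1) pre post = true) :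
    (∀ χ ∈ principalBlock M G, χ = trivialIrr G ∨ post (charDegree (χ : G → ℂ)) = true) ∧
      ∃ χ ∈ principalBlock M G, χ ≠ trivialIrr G := by
  classical
  have hp3 : 2 < p := lt_of_le_of_ne hp.out.two_le (Ne.symm hp2)
  have hlarge : ∀ χ : IrrCharacter G, χ ≠ trivialIrr G → ∀ s : ℤ, (s = 1 ∨ s = -1) →
      (charDegree (χ : G → ℂ) : ℤ) ≡ s [ZMOD p] →
      (∀ v ∈ Subgroup.centralizer ((P : Subgroup G) : Set G), ¬ p ∣ orderOf v →
        MemLocalIdeal M ((χ : G → ℂ) v - (s : ℂ))) → ((c != 1) = true) →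
      (charDegree (χ : G → ℂ) % p = 1 ∧ 2 * p + 1 ≤ charDegree (χ : G → ℂ)) ∨
      (charDegree (χ : G → ℂ) % p = p - 1 ∧ 3 * p - 1 ≤ charDegree (χ : G → ℂ)) := by
    intro χ hne s hs hd hv' hc
    obtain ⟨q, v, hq, hqp, hv, hov⟩ := OrdP.exists_prime_elem (p := p) hpm hC hcm (by simpa using hc)
    exact OrdP.deg_large hna hM hne hs hd hv' hq hqp hv hov
  unfold degTest at ht
  by_cases hep1 : e = p - 1
  · subst hep1
    rw [if_pos (by simp)] at ht
    obtain ⟨Z, s, hZc, htZ, hmem, hZ, hrel, hcol⟩ := OrdP.full hna hM hp2 P hP he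
    have hne : ∀ χ ∈ Z, χ ≠ trivialIrr G := fun χ hχ e => htZ (e ▸ hχ)
    obtain ⟨u, hu, hu1⟩ : ∃ u ∈ (P : Subgroup G), u ≠ 1 := by
      refine (Subgroup.bot_or_exists_ne_one (P : Subgroup G)).resolve_left fun h => hp.out.one_lt.ne ?_
      rw [← hP, show Nat.card P = Nat.card (P : Subgroup G) from rfl, h, Subgroup.card_bot]
    have h1 := hrel 1 (by rw [orderOf_one]; exact hp.out.not_dvd_one)
    simp only [charDeg_spec'] at h1
    have hsum : (1 : ℤ) + ∑ χ ∈ Z, s χ * (charDegree (χ : G → ℂ) : ℤ) = 0 := by exact_mod_cast h1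
    have h3 := hcol 1
    rw [centralizer_one_eq_top, Subgroup.card_top, h] at h3
    simp only [OrdP.normSq_one] at h3
    have hsz : 1 + ∑ χ ∈ Z, charDegree (χ : G → ℂ) ^ 2 ≤ n := by exact_mod_cast h3
    have hin : ∀ χ ∈ Z, (s χ * (charDegree (χ : G → ℂ) : ℤ), charDegree (χ : G → ℂ) * charDegree (χ : G → ℂ),
        if post (charDegree (χ : G → ℂ)) then 0 else 1) ∈ cands n p B (c != 1) pre post := by
      intro χ hχ
      obtain ⟨hs, hd, hv'⟩ := hZ χ hχ
      refine mem_cands hp3 (OrdP.two_le_deg hna (hne χ hχ)) ?_ hB (h ▸ charDeg_dvd χ) (hpre χ (hne χ hχ))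
        hs hd (hlarge χ (hne χ hχ) (s χ) hs hd fun w hw hwr => (hv' u hu hu1 w hw hwr).2)
      have := Finset.single_le_sum (f := fun ξ : IrrCharacter G => charDegree (ξ : G → ℂ) ^ 2)
        (fun ξ _ => Nat.zero_le _) hχ
      rw [← sq]
      omega
    have hf := search_sound (n := n) _ (fun v hv => by simp [hv]) _ _ _ ht Z _ (by omega) hin
    simp only [Prod.fst_add, Prod.snd_add, Prod.fst_sum, Prod.snd_sum, ← sq] at hf
    simp only [zero_add, Bool.or_eq_true, decide_eq_true_iff, bne_iff_ne, ne_eq, beq_iff_eq] at hf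
    have hpost : ∀ χ ∈ Z, post (charDegree (χ : G → ℂ)) = true := by
      intro χ hχ
      rcases hf with (hf | hf) | hf
      · omega
      · exact absurd hsum hf
      · have := (Finset.sum_eq_zero_iff.1 hf) χ hχ
        simpa using this
    refine ⟨fun χ hχ => ?_, ?_⟩
    · rcases (hmem χ).1 hχ with h | h
      · exact Or.inl h
      · exact Or.inr (hpost χ h)
    · obtain ⟨χ, hχ⟩ : Z.Nonempty := Finset.card_pos.1 (by omega)
      exact ⟨χ, (hmem χ).2 (Or.inr hχ), hne χ hχ⟩
  · rw [if_neg (by simpa using hep1)] at ht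
    obtain ⟨X, y, s, ε, hX, hXd, hyne, hε, hdy, hsum, hsz, hmem, hXB⟩ := data' hna hM hp2 P hP he he1 hep hep1
    rw [h] at hsz
    have hin : ∀ χ ∈ X, (s χ * (charDegree (χ : G → ℂ) : ℤ), charDegree (χ : G → ℂ) * charDegree (χ : G → ℂ),
        if post (charDegree (χ : G → ℂ)) then 0 else 1) ∈ cands n p B (c != 1) pre post := by
      intro χ hχ
      obtain ⟨hne, hs, hd, hv'⟩ := hXd χ hχ
      refine mem_cands hp3 (OrdP.two_le_deg hna hne) ?_ hB (h ▸ charDeg_dvd χ) (hpre χ hne)
        hs hd (hlarge χ hne (s χ) hs hd hv')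
      have := Finset.single_le_sum (f := fun ξ : IrrCharacter G => charDegree (ξ : G → ℂ) ^ 2)
        (fun ξ _ => Nat.zero_le _) hχ
      rw [← sq]
      omega
    unfold partTest at ht
    have hf := search_sound (n := n) _ (fun v hv => by simp [Nat.lt_add_right _ hv]) _ _ _ ht X _ (by omega) hin
    simp only [Prod.fst_add, Prod.snd_add, Prod.fst_sum, Prod.snd_sum, ← sq] at hf
    rw [← hsum] at hf
    have habs : (ε * (charDegree (y : G → ℂ) : ℤ)).natAbs = charDegree (y : G → ℂ) := by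
      rcases hε with rfl | rfl <;> simp
    rw [habs] at hf
    simp only [zero_add, Bool.or_eq_true, Bool.and_eq_true, decide_eq_true_iff, bne_iff_ne, ne_eq,
      beq_iff_eq, Bool.not_eq_true'] at hf
    have hy2 := OrdP.two_le_deg hna hyne
    have hdvy : n % charDegree (y : G → ℂ) = 0 := Nat.mod_eq_zero_of_dvd (h ▸ charDeg_dvd y)
    have hmody : charDegree (y : G → ℂ) % p = e % p ∨ charDegree (y : G → ℂ) % p = p - e := by
      have hep' : e ≤ p - 1 := Nat.le_of_dvd (by omega) hep
      rcases hε with rfl | rfl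
      · left
        rw [one_mul, Int.natCast_modEq_iff] at hdy
        exact hdy
      · right
        have h1 : (charDegree (y : G → ℂ) : ℤ) ≡ ((p - e : ℕ) : ℤ) [ZMOD p] := by
          refine hdy.trans (Int.modEq_iff_dvd.2 ⟨1, ?_⟩)
          push_cast [Nat.cast_sub (show e ≤ p by omega)]
          ring
        rw [Int.natCast_modEq_iff] at h1
        unfold Nat.ModEq at h1
        rw [h1]
        exact Nat.mod_eq_of_lt (by omega)
    rcases hf with (((((hf | hf) | hf) | hf) | hf) | hf)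
    · omega
    · omega
    · exact absurd hdvy hf
    · exact absurd (hpre y hyne) (by simp [hf])
    · rcases hmody with h' | h'
      · exact absurd h' hf.1
      · exact absurd h' hf.2
    · have hpost : ∀ χ ∈ X, post (charDegree (χ : G → ℂ)) = true := fun χ hχ => by
        have := (Finset.sum_eq_zero_iff.1 hf.1) χ hχ
        simpa using this
      refine ⟨fun χ hχ => ?_, ?_⟩
      · rcases hmem χ hχ with h' | h' | h'
        · exact Or.inl h'
        · exact Or.inr (hpost χ h')
        · exact Or.inr (h' ▸ hf.2)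
      · obtain ⟨χ, hχ⟩ : X.Nonempty := Finset.card_pos.1 (by omega)
        exact ⟨χ, hXB χ hχ, (hXd χ hχ).1⟩

/-- All the degrees are prescribed when a Sylow subgroup of prime order is self-centralizing. -/
theorem self_degrees (hna : ¬ IsMulCommutative G) {n p m e B : ℕ} [hp : Fact p.Prime]
    (h : Nat.card G = n) (hpm : ¬ p ∣ m) (hp2 : p ≠ 2) (P : Sylow p G) (hP : Nat.card P = p)
    (he : (Subgroup.centralizer ((P : Subgroup G) : Set G)).relIndex
      (Subgroup.normalizer ((P : Subgroup G) : Set G)) = e) (he1 : 1 < e) (hep : e ∣ p - 1)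
    (hC : Nat.card (Subgroup.centralizer ((P : Subgroup G) : Set G)) = p * 1)
    (pre post : ℕ → Bool) (hpre : ∀ χ : IrrCharacter G, χ ≠ trivialIrr G → pre (charDegree (χ : G → ℂ)) = true)
    (hB : n ≤ B * B) (ht : degTest n p B e false pre post = true)
    (χ : IrrCharacter G) (hχ : χ ≠ trivialIrr G) :
    (charDegree (χ : G → ℂ) % p == 0 || post (charDegree (χ : G → ℂ))) = true := by
  obtain ⟨M, hM⟩ := exists_isPModular p hp.out
  by_cases hmem : χ ∈ principalBlock M G
  · rw [((block_degrees hna hM h hpm hp2 P hP (one_dvd m) he he1 hep hC pre post hpre hB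
      (by simpa using ht)).1 χ hmem).resolve_left hχ, Bool.or_true]
  · obtain ⟨u, hu, hu1⟩ : ∃ u ∈ (P : Subgroup G), u ≠ 1 := by
      refine (Subgroup.bot_or_exists_ne_one (P : Subgroup G)).resolve_left fun h => hp.out.one_lt.ne ?_
      rw [← hP, show Nat.card P = Nat.card (P : Subgroup G) from rfl, h, Subgroup.card_bot]
    have hou : orderOf u = p := by
      have h1 := Subgroup.orderOf_dvd_natCard _ hu
      rw [show Nat.card (P : Subgroup G) = p from hP] at h1
      exact ((Nat.dvd_prime hp.out).1 h1).resolve_left fun h => hu1 (orderOf_eq_one_iff.1 h)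
    have hz : Subgroup.zpowers u = (P : Subgroup G) :=
      Subgroup.eq_of_le_of_card_ge (Subgroup.zpowers_le.2 hu)
        (by rw [Nat.card_zpowers, hou]; exact le_of_eq hP)
    have hCu : Nat.card (Subgroup.centralizer ({u} : Set G)) = p := by
      rw [show Subgroup.centralizer ({u} : Set G) = Subgroup.centralizer ((P : Subgroup G) : Set G) by
        rw [← hz, ← Subgroup.centralizer_closure, ← Subgroup.zpowers_eq_closure], hC, mul_one]
    rw [Nat.mod_eq_zero_of_dvd (dvd_deg_of_notMem hM hou hCu χ hmem)]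
    rfl

/-- Elimination of a configuration at `p`. -/
theorem deg_elim (hna : ¬ IsMulCommutative G) {n p m c e B : ℕ} [hp : Fact p.Prime]
    (h : Nat.card G = n) (hpm : ¬ p ∣ m) (hp2 : p ≠ 2) (P : Sylow p G) (hP : Nat.card P = p) (hcm : c ∣ m)
    (he : (Subgroup.centralizer ((P : Subgroup G) : Set G)).relIndex
      (Subgroup.normalizer ((P : Subgroup G) : Set G)) = e) (he1 : 1 < e) (hep : e ∣ p - 1)
    (hC : Nat.card (Subgroup.centralizer ((P : Subgroup G) : Set G)) = p * c)
    (pre : ℕ → Bool) (hpre : ∀ χ : IrrCharacter G, χ ≠ trivialIrr G → pre (charDegree (χ : G → ℂ)) = true)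
    (hB : n ≤ B * B) (ht : degTest n p B e (c != 1) pre (fun _ => false) = true) : False := by
  obtain ⟨M, hM⟩ := exists_isPModular p hp.out
  obtain ⟨h1, χ, hχ, hne⟩ := block_degrees hna hM h hpm hp2 P hP hcm he he1 hep hC pre _ hpre hB ht
  exact Bool.false_ne_true ((h1 χ hχ).resolve_left hne)

end Cfsg.Agent.Block.SmallOrd
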