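import Mathlib
import Cfsg.Agent.Lib.Block.SmallOrd.Degrees
import Cfsg.Agent.Lib.Fus.SmallSimple

/-!
A checker of certificates that an order is not the order of a non-abelian simple group.
-/

set_option autoImplicit false

namespace Cfsg.Agent.Block.SmallOrd

open Cfsg Cfsg.Agent.Block Cfsg.Agent.Char

universe u

/-- Primality by trial division up to the number. -/
def primeB (p : ℕ) : Bool := decide (2 ≤ p) && (List.range p).all fun d => decide (d < 2) || p % d != 0

theorem prime_of_primeB {p : ℕ} (h : primeB p = true) : p.Prime := by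
  simp only [primeB, Bool.and_eq_true, decide_eq_true_iff, List.all_eq_true, List.mem_range,
    Bool.or_eq_true, bne_iff_ne, ne_eq] at h
  exact Nat.prime_def_lt.2 ⟨h.1, fun d hd hdp => by
    rcases h.2 d hd with h' | h'
    · rcases Nat.eq_zero_or_pos d with rfl | h0
      · rw [zero_dvd_iff] at hdp
        omega
      · omega
    · exact absurd (Nat.mod_eq_zero_of_dvd hdp) h'⟩

/-- A certificate: two primes, a large prime, a Sylow number, or the degrees at a prime. -/
inductive Cert
  | two (p a q b : ℕ)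
  | large (p : ℕ)
  | syl (p a : ℕ)
  | deg (p : ℕ)

/-- The degrees exclude every configuration at `p`, given the degree filter `pre`. -/
def degKill (n p B : ℕ) (pre : ℕ → Bool) : Bool :=
  let m := n / p
  primeB p && decide (2 < p) && n % p == 0 && m % p != 0 &&
    (p * (p - 1) * (p + 1)) % (2 * (p * m)) != 0 && decide (n ≤ B * B) &&
    (List.range (m + 1)).all fun k => !(decide (1 < k) && m % (p * k + 1) == 0) ||
      (decide (p * k + 1 < 30) && (p * k + 1).factorial % (2 * n) != 0) ||
      (List.range p).all fun e => !(decide (1 < e) && (p - 1) % e == 0 && (m / (p * k + 1)) % e == 0) ||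
        degTest n p B e (m / (p * k + 1) / e != 1) pre fun _ => false

/-- The checker. -/
def check (n : ℕ) : Cert → Bool
  | .two p a q b => primeB p && primeB q && n == p ^ a * q ^ b
  | .large p => primeB p && decide (2 < p) && n % p == 0 && (n / p) % p != 0 &&
      decide (2 * (p * (n / p)) < p * (p * p - 1))
  | .syl p a => primeB p && n % p ^ a == 0 && a != 0 && n != 0 && Fus.SmallOrd.sylTest n p (n / p ^ a)
  | .deg p => degKill n p 420 fun _ => true

variable {G : Type u} [Group G] [Finite G] [IsSimpleGroup G]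

theorem false_of_degKill (hna : ¬ IsMulCommutative G) {n p B : ℕ} (h : Nat.card G = n) (pre : ℕ → Bool)
    (hpre : ∀ χ : IrrCharacter G, χ ≠ trivialIrr G → pre (charDegree (χ : G → ℂ)) = true)
    (ht : degKill n p B pre = true) : False := by
  simp only [degKill, Bool.and_eq_true, decide_eq_true_iff, beq_iff_eq, bne_iff_ne, ne_eq,
    List.all_eq_true, List.mem_range, Bool.or_eq_true, Bool.not_eq_true'] at ht
  obtain ⟨⟨⟨⟨⟨⟨hpB, hp2⟩, hdiv⟩, hnp⟩, hfac⟩, hB⟩, hall⟩ := ht
  have hp := prime_of_primeB hpB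
  haveI := Fact.mk hp
  have hcard : Nat.card G = p * (n / p) := by rw [h, Nat.mul_div_cancel' (Nat.dvd_of_mod_eq_zero hdiv)]
  have hpm : ¬ p ∣ n / p := fun hd => hnp (Nat.mod_eq_zero_of_dvd hd)
  obtain ⟨P⟩ : Nonempty (Sylow p G) := inferInstance
  obtain ⟨e, k, c, hk1, hkm, he, he1, hep, hc, hprod⟩ :=
    OrdP.exists_e' hna hcard hpm (by omega) (fun hd => hfac (Nat.mod_eq_zero_of_dvd hd)) P
  have hm0 : 0 < n / p := Nat.pos_of_ne_zero fun e => hpm (by rw [e]; exact dvd_zero p)
  have hle := Nat.le_of_dvd hm0 hkm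
  have hkle : k ≤ n / p := le_trans (Nat.le_mul_of_pos_left k hp.pos) (by omega)
  have hep' : e < p := lt_of_le_of_lt (Nat.le_of_dvd (by omega) hep) (by omega)
  have hdivk : n / p / (p * k + 1) = c * e := by
    conv_lhs => rw [← hprod]
    exact Nat.mul_div_cancel _ (by omega)
  rcases hall k (by omega) with (hh | hh) | hh
  · simp [hk1, Nat.mod_eq_zero_of_dvd hkm] at hh
  · obtain ⟨k', -, hk', hk'd, hidx, hmul', hfac'⟩ :=
      small_sylow_number hna P (a := 1) (m := n / p) (by rw [pow_one, hcard]) one_ne_zero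
    have hCN := Subgroup.centralizer_le_normalizer ((P : Subgroup G) : Set G)
    have h1 : Nat.card (Subgroup.centralizer ((P : Subgroup G) : Set G)) * e =
        Nat.card (Subgroup.normalizer ((P : Subgroup G) : Set G)) := by
      rw [← he, Subgroup.relIndex, ← Nat.card_congr (Subgroup.subgroupOfEquivOfLe hCN).toEquiv,
        Subgroup.card_mul_index]
    rw [hc] at h1
    rw [← h1, hcard, ← hprod] at hmul'
    have h2 : p * k' + 1 = p * k + 1 := by
      refine Nat.eq_of_mul_eq_mul_left (Nat.pos_of_ne_zero fun e0 => ?_) (hmul'.trans (by ring : p * (c * e * (p * k + 1)) = p * c * e * (p * k + 1)))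
      rw [e0] at h1
      exact (Nat.card_pos (α := Subgroup.normalizer ((P : Subgroup G) : Set G))).ne h1
    rw [h2, h] at hfac'
    exact hh.2 (Nat.mod_eq_zero_of_dvd hfac')
  · have hh' := hh e hep'
    simp [he1, Nat.mod_eq_zero_of_dvd hep, hdivk] at hh'
    exact deg_elim hna (c := c) h hpm (by omega) P (OrdP.card_sylow_eq hcard hpm P)
      ⟨e * (p * k + 1), by rw [← mul_assoc]; exact hprod.symm⟩ he he1 hep hc pre hpre hB
      (by rwa [Nat.mul_div_cancel _ (by omega : 0 < e)] at hh')

theorem false_of_check (hna : ¬ IsMulCommutative G) {n : ℕ} (h : Nat.card G = n) (c : Cert)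
    (ht : check n c = true) : False := by
  cases c with
  | two p a q b =>
    simp only [check, Bool.and_eq_true, beq_iff_eq] at ht
    exact Fus.SmallOrd.two_primes hna (prime_of_primeB ht.1.1) (prime_of_primeB ht.1.2) (h.trans ht.2)
  | large p =>
    simp only [check, Bool.and_eq_true, beq_iff_eq, decide_eq_true_iff, bne_iff_ne, ne_eq] at ht
    obtain ⟨⟨⟨⟨hp, hp2⟩, hd⟩, hnp⟩, hs⟩ := ht
    exact Fus.SmallOrd.large_prime hna (prime_of_primeB hp) (by omega)
      (h.trans (Nat.mul_div_cancel' (Nat.dvd_of_mod_eq_zero hd)).symm)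
      (fun hd' => hnp (Nat.mod_eq_zero_of_dvd hd')) hs
  | syl p a =>
    simp only [check, Bool.and_eq_true, beq_iff_eq, bne_iff_ne, ne_eq] at ht
    obtain ⟨⟨⟨⟨hp, hd⟩, ha⟩, hn⟩, hs⟩ := ht
    exact Fus.SmallOrd.no_sylow_number hna (prime_of_primeB hp) h
      (Nat.mul_div_cancel' (Nat.dvd_of_mod_eq_zero hd)).symm ha
      (Nat.div_pos (Nat.le_of_dvd (Nat.pos_of_ne_zero hn) (Nat.dvd_of_mod_eq_zero hd))
        (pow_pos (prime_of_primeB hp).pos a)) hs
  | deg p => exact false_of_degKill hna h _ (fun _ _ => rfl) ht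

/-- A certified list. -/
theorem false_of_list (hna : ¬ IsMulCommutative G) (L : List (ℕ × Cert))
    (hL : (L.all fun x => check x.1 x.2) = true) (hn : (L.any fun x => x.1 == Nat.card G) = true) : False := by
  obtain ⟨x, hx, hxn⟩ := List.any_eq_true.1 hn
  exact false_of_check hna (beq_iff_eq.1 hxn).symm x.2 (List.all_eq_true.1 hL x hx)

end Cfsg.Agent.Block.SmallOrd
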