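import Mathlib
import Cfsg.Agent.Lib.Block.SmallOrd.Kill
import Cfsg.Agent.Lib.Block.SmallOrd.Inter

/-!
The orders 4200, 4500, 4620, 5292, 5400, 5460 and 6000.
-/

set_option autoImplicit false

namespace Cfsg.Agent.Block.SmallOrd

open Pointwise
open Cfsg Cfsg.Agent.Block Cfsg.Agent.Char

universe u

variable {G : Type u} [Group G] [Finite G] [IsSimpleGroup G]

theorem card_sylow_of {p a m n : ℕ} [hp : Fact p.Prime] (h : Nat.card G = n) (hn : n = p ^ a * m)
    (hpm : ¬ p ∣ m) (P : Sylow p G) : Nat.card P = p ^ a := by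
  rw [P.card_eq_multiplicity, h, hn, Nat.factorization_mul (pow_ne_zero _ hp.out.ne_zero)
    (fun e => hpm (by rw [e]; exact dvd_zero p)), Finsupp.add_apply, hp.out.factorization_pow,
    Finsupp.single_eq_same, Nat.factorization_eq_zero_of_not_dvd hpm, add_zero]

/-- The normalizer of the intersection with a near Sylow subgroup. -/
theorem near_card (hna : ¬ IsMulCommutative G) {p a m n : ℕ} [hp : Fact p.Prime] (h : Nat.card G = n)
    (hn : n = p ^ a * m) (hpm : ¬ p ∣ m) (ha : 2 ≤ a) {P Q : Sylow p G} (hQ : Q ∈ near P) :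
    ∃ k : ℕ, k ∣ m ∧ k < m ∧
      Nat.card (Subgroup.normalizer ((((P : Subgroup G) ⊓ (Q : Subgroup G)) : Subgroup G) : Set G)) = p ^ a * k ∧
      2 * n ∣ (m / k).factorial ∧ ∃ d, d ∣ k ∧ d % p = 1 ∧ 1 < d ∧
      d = Nat.card (Sylow p (Subgroup.normalizer
        ((((P : Subgroup G) ⊓ (Q : Subgroup G)) : Subgroup G) : Set G))) := by
  obtain ⟨hPN, hQN, hne, hcard⟩ := near_normalizes hQ
  set D := (P : Subgroup G) ⊓ (Q : Subgroup G) with hD
  set N := Subgroup.normalizer (D : Set G) with hN
  have hP := card_sylow_of h hn hpm P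
  obtain ⟨k, hk⟩ : p ^ a ∣ Nat.card N := hP ▸ Subgroup.card_dvd_of_le hPN
  have hidx := N.card_mul_index
  rw [hk, h, hn, mul_assoc] at hidx
  have hki : k * N.index = m := Nat.eq_of_mul_eq_mul_left (pow_pos hp.out.pos a) hidx
  have hk0 : 0 < k := Nat.pos_of_ne_zero fun e => by
    rw [e, mul_zero] at hk; exact Nat.card_pos.ne' hk
  have hNtop : N ≠ ⊤ := fun e => by
    have hDn : D.Normal := Subgroup.normalizer_eq_top_iff.1 e
    rcases hDn.eq_bot_or_eq_top with e' | e'
    · rw [e', Subgroup.card_bot, one_mul, hP] at hcard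
      have h2 : p ^ 1 < p ^ a := Nat.pow_lt_pow_right hp.out.one_lt (by omega)
      rw [pow_one, ← hcard] at h2
      exact lt_irrefl _ h2
    · exact hne (Sylow.ext (le_antisymm ((le_top.trans e'.ge).trans inf_le_right)
        ((le_top.trans e'.ge).trans inf_le_left)))
  have hi1 : N.index ≠ 1 := fun e => hNtop (Subgroup.index_eq_one.1 e)
  have hmk : m / k = N.index := by rw [← hki, Nat.mul_div_cancel_left _ hk0]
  refine ⟨k, ⟨N.index, hki.symm⟩, ?_, hk, ?_, Nat.card (Sylow p N), ?_, ?_, ?_, rfl⟩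
  · have : 1 < N.index := lt_of_le_of_ne (Nat.pos_of_ne_zero Subgroup.index_ne_zero_of_finite) (Ne.symm hi1)
    rw [← hki]
    exact lt_mul_of_one_lt_right hk0 this
  · rw [hmk, ← h]; exact small_two_card_dvd hna N hNtop
  · have h1 := Sylow.card_dvd_index (P.subtype hPN)
    have h2 := ((P.subtype hPN : Sylow p N) : Subgroup N).card_mul_index
    rw [Sylow.coe_subtype] at h1 h2
    rw [Nat.card_congr (Subgroup.subgroupOfEquivOfLe hPN).toEquiv, hk,
      show Nat.card (P : Subgroup G) = p ^ a from hP] at h2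
    rwa [← Nat.eq_of_mul_eq_mul_left (pow_pos hp.out.pos a) h2]
  · have := card_sylow_modEq_one p N
    rwa [Nat.ModEq, Nat.one_mod_eq_one.2 hp.out.one_lt.ne'] at this
  · haveI : Nontrivial (Sylow p N) :=
      ⟨⟨P.subtype hPN, Q.subtype hQN, fun e => hne (Sylow.subtype_injective (hP := hPN) (hQ := hQN) e)⟩⟩
    exact Finite.one_lt_card

/-- The orders with few Sylow subgroups. -/
theorem few_false (hna : ¬ IsMulCommutative G) {p a m n : ℕ} [hp : Fact p.Prime] (h : Nat.card G = n)
    (hn : n = p ^ a * m) (hpm : ¬ p ∣ m) (ha : 2 ≤ a) (hlt : Nat.card (Sylow p G) < p ^ 2) : False := by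
  obtain ⟨P⟩ : Nonempty (Sylow p G) := inferInstance
  have h1 := Cfsg.Agent.S4343.result hna p
    (by rw [h, hn]; exact (dvd_pow_self p (by omega)).mul_right m) hlt P
  rw [card_sylow_of h hn hpm P] at h1
  have h2 : p ^ 1 < p ^ a := Nat.pow_lt_pow_right hp.out.one_lt (by omega)
  rw [h1, pow_one] at h2
  exact lt_irrefl _ h2

theorem ne_5292 (hna : ¬ IsMulCommutative G) : Nat.card G ≠ 5292 := by
  intro h
  haveI : Fact (Nat.Prime 7) := ⟨by norm_num⟩
  obtain ⟨P⟩ : Nonempty (Sylow 7 G) := inferInstance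
  obtain ⟨k, hk0, hk, hkd, -, -, hfac⟩ := small_sylow_number hna P (a := 2) (m := 108) (by rw [h]; norm_num)
    (by norm_num)
  refine few_false hna (p := 7) (a := 2) (m := 108) h (by norm_num) (by norm_num) le_rfl ?_
  have : k ≤ 15 := by have := Nat.le_of_dvd (by norm_num) hkd; omega
  rw [hk]
  interval_cases k <;> first | (norm_num; done) | (norm_num at hkd; done)

theorem ne_6000 (hna : ¬ IsMulCommutative G) : Nat.card G ≠ 6000 := by
  intro h
  haveI : Fact (Nat.Prime 5) := ⟨by norm_num⟩
  obtain ⟨P⟩ : Nonempty (Sylow 5 G) := inferInstance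
  obtain ⟨k, hk0, hk, hkd, -, -, hfac⟩ := small_sylow_number hna P (a := 3) (m := 48) (by rw [h]; norm_num)
    (by norm_num)
  refine few_false hna (p := 5) (a := 3) (m := 48) h (by norm_num) (by norm_num) (by norm_num) ?_
  have : k ≤ 9 := by have := Nat.le_of_dvd (by norm_num) hkd; omega
  rw [hk]
  interval_cases k <;> first | (norm_num; done) | (norm_num at hkd; done)

theorem ne_4500 (hna : ¬ IsMulCommutative G) : Nat.card G ≠ 4500 := by
  intro h
  haveI : Fact (Nat.Prime 5) := ⟨by norm_num⟩
  obtain ⟨P⟩ : Nonempty (Sylow 5 G) := inferInstance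
  obtain ⟨k, hk0, hk, hkd, -, -, hfac⟩ := small_sylow_number hna P (a := 3) (m := 36) (by rw [h]; norm_num)
    (by norm_num)
  have hn' : (4500 : ℕ) = 5 ^ 3 * 36 := by norm_num
  have hk7 : k ≤ 7 := by have := Nat.le_of_dvd (by norm_num) hkd; omega
  have hk17 : k = 1 ∨ k = 7 := by interval_cases k <;> first | omega | (norm_num at hkd; done)
  rcases hk17 with rfl | rfl
  · exact few_false hna (p := 5) h hn' (by norm_num) (by norm_num) (by rw [hk]; norm_num)
  have hmod := card_modEq_near P
  rw [hk] at hmod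
  obtain ⟨Q, hQ⟩ : (near P).Nonempty := by
    rw [Set.nonempty_iff_ne_empty]
    intro e
    rw [e, Set.ncard_empty] at hmod
    norm_num [Nat.ModEq] at hmod
  obtain ⟨j, hj, -, -, hfac', d, hd, hd5, hd1, -⟩ := near_card hna (p := 5) h hn' (by norm_num) (by norm_num) hQ
  have hjd := Nat.le_of_dvd (Nat.pos_of_dvd_of_pos hj (by norm_num)) hd
  have hj6 : 6 ≤ j := by omega
  have hdiv : 36 / j ≤ 6 := Nat.le_of_lt_succ (Nat.div_lt_iff_lt_mul (by omega) |>.2 (by omega))
  have h1 := hfac'.trans (Nat.factorial_dvd_factorial hdiv)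
  norm_num [Nat.factorial] at h1

/-- The configuration with `25 * k` elements in the normalizer of the intersection. -/
theorem near_twelve (hna : ¬ IsMulCommutative G) {n m : ℕ} (h : Nat.card G = n) (hn : n = 5 ^ 2 * m)
    (hm : m = 168 ∨ m = 216) [Fact (Nat.Prime 5)] {P Q : Sylow 5 G} (hQ : Q ∈ near P) :
    Nat.card (Subgroup.normalizer ((((P : Subgroup G) ⊓ (Q : Subgroup G)) : Subgroup G) : Set G)) = 300 ∧
    Nat.card (Sylow 5 (Subgroup.normalizer
      ((((P : Subgroup G) ⊓ (Q : Subgroup G)) : Subgroup G) : Set G))) = 6 := by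
  have hpm : ¬ 5 ∣ m := by rcases hm with rfl | rfl <;> norm_num
  have hP := card_sylow_of (p := 5) (a := 2) h hn hpm P
  obtain ⟨hPN, hQN, hne, -⟩ := near_normalizes hQ
  obtain ⟨j, hj, hjlt, hcard, hfac, d, hd, hd5, hd1, hdN⟩ := near_card hna (p := 5) h hn hpm le_rfl hQ
  have hj0 : 0 < j := Nat.pos_of_dvd_of_pos hj (by rcases hm with rfl | rfl <;> norm_num)
  have hjd := Nat.le_of_dvd hj0 hd
  have hj21 : j ≤ 21 := by
    by_contra hlt
    have hdiv : m / j ≤ 9 := by
      refine Nat.le_of_lt_succ ((Nat.div_lt_iff_lt_mul hj0).2 ?_)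
      rcases hm with rfl | rfl <;> omega
    have h1 := hfac.trans (Nat.factorial_dvd_factorial hdiv)
    rcases hm with rfl | rfl <;> norm_num [hn, Nat.factorial] at h1
  have hodd : ∀ k : ℕ, j = 2 * k → ¬ 2 ∣ k → (∀ e, e ∣ k → e % 5 = 1 → e = 1) → False := by
    intro k hk hk2 hone
    exact hne (eq_of_le_of_twice_odd (by norm_num) hPN hQN (k := k) (by rw [hcard, hP, hk]; ring) hk2 hone)
  have h3 : ¬ 2 ∣ 3 := by norm_num
  have h9 : ¬ 2 ∣ 9 := by norm_num
  have hone3 : ∀ e, e ∣ 3 → e % 5 = 1 → e = 1 := fun e he he5 => by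
    have := Nat.le_of_dvd (by norm_num) he
    omega
  have hone9 : ∀ e, e ∣ 9 → e % 5 = 1 → e = 1 := fun e he he5 => by
    have := Nat.le_of_dvd (by norm_num) he
    have : e ≠ 6 := fun e6 => by rw [e6] at he; norm_num at he
    omega
  have hd6 : d = 6 ∧ j = 12 := by
    have hd21 : d ≤ 21 := by omega
    interval_cases d <;> first
      | omega
      | (obtain ⟨t, ht⟩ := hd
         have ht3 : t ≤ 3 := by omega
         interval_cases t <;> first
           | omega
           | exact (hodd 3 (by omega) h3 hone3).elim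
           | exact (hodd 9 (by omega) h9 hone9).elim
           | (rcases hm with rfl | rfl <;> subst ht <;> first
               | (norm_num at hj; done)
               | (norm_num [hn, Nat.factorial] at hfac; done)))
  exact ⟨by rw [hcard, hd6.2]; norm_num, hdN.symm.trans hd6.1⟩

/-- The Sylow normalizer inside the normalizer of the intersection. -/
theorem near_fifty (hna : ¬ IsMulCommutative G) {n m : ℕ} (h : Nat.card G = n) (hn : n = 5 ^ 2 * m)
    (hm : m = 168 ∨ m = 216) [Fact (Nat.Prime 5)] {P Q : Sylow 5 G} (hQ : Q ∈ near P) :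
    Nat.card ((Subgroup.normalizer ((P : Subgroup G) : Set G)) ⊓
      Subgroup.normalizer ((((P : Subgroup G) ⊓ (Q : Subgroup G)) : Subgroup G) : Set G) : Subgroup G) = 50 := by
  obtain ⟨hN, hS⟩ := near_twelve hna h hn hm hQ
  obtain ⟨hPN, -, -, -⟩ := near_normalizes hQ
  set N := Subgroup.normalizer ((((P : Subgroup G) ⊓ (Q : Subgroup G)) : Subgroup G) : Set G) with hNd
  rw [Sylow.card_eq_index_normalizer (P.subtype hPN)] at hS
  simp only [← Sylow.coe_coe, Sylow.coe_subtype] at hS
  rw [← Subgroup.subgroupOf_normalizer_eq hPN] at hS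
  have h1 := ((Subgroup.normalizer ((P : Subgroup G) : Set G)).subgroupOf N).card_mul_index
  rw [hS, hN] at h1
  rw [← Subgroup.map_subgroupOf_eq_of_le (inf_le_right : (Subgroup.normalizer ((P : Subgroup G) : Set G)) ⊓ N ≤ N),
    Subgroup.card_map_of_injective N.subtype_injective, Subgroup.inf_subgroupOf_right]
  omega

theorem ne_4200 (hna : ¬ IsMulCommutative G) : Nat.card G ≠ 4200 := by
  intro h
  haveI : Fact (Nat.Prime 5) := ⟨by norm_num⟩
  obtain ⟨P⟩ : Nonempty (Sylow 5 G) := inferInstance
  obtain ⟨k, hk0, hk, hkd, -, hmul, hfac⟩ := small_sylow_number hna P (a := 2) (m := 168) (by rw [h]; norm_num)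
    (by norm_num)
  have hn' : (4200 : ℕ) = 5 ^ 2 * 168 := by norm_num
  have hk33 : k ≤ 33 := by have := Nat.le_of_dvd (by norm_num) hkd; omega
  have hcases : k ≤ 4 ∨ k = 11 := by interval_cases k <;> first | omega | (norm_num at hkd; done)
  rcases hcases with hk4 | rfl
  · exact few_false hna (p := 5) h hn' (by norm_num) le_rfl (by rw [hk]; omega)
  have hmod := card_modEq_near P
  rw [hk] at hmod
  obtain ⟨Q, hQ⟩ : (near P).Nonempty := by
    rw [Set.nonempty_iff_ne_empty]
    intro e
    rw [e, Set.ncard_empty] at hmod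
    norm_num [Nat.ModEq] at hmod
  have h50 := near_fifty hna h hn' (Or.inl rfl) hQ
  have h1 := Subgroup.card_dvd_of_le (inf_le_left :
    (Subgroup.normalizer ((P : Subgroup G) : Set G)) ⊓
      Subgroup.normalizer ((((P : Subgroup G) ⊓ (Q : Subgroup G)) : Subgroup G) : Set G) ≤ _)
  rw [h50] at h1
  rw [h] at hmul
  have h75 : Nat.card (Subgroup.normalizer ((P : Subgroup G) : Set G)) = 75 := by omega
  rw [h75] at h1
  norm_num at h1

theorem ne_5400 (hna : ¬ IsMulCommutative G) : Nat.card G ≠ 5400 := by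
  classical
  intro h
  haveI : Fact (Nat.Prime 5) := ⟨by norm_num⟩
  obtain ⟨P⟩ : Nonempty (Sylow 5 G) := inferInstance
  obtain ⟨k, hk0, hk, hkd, -, hmul, hfac⟩ := small_sylow_number hna P (a := 2) (m := 216) (by rw [h]; norm_num)
    (by norm_num)
  have hn' : (5400 : ℕ) = 5 ^ 2 * 216 := by norm_num
  have hk43 : k ≤ 43 := by have := Nat.le_of_dvd (by norm_num) hkd; omega
  have hcases : k ≤ 4 ∨ k = 7 ∨ k = 43 := by interval_cases k <;> first | omega | (norm_num at hkd; done)
  rcases hcases with hk4 | rfl | rfl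
  · exact few_false hna (p := 5) h hn' (by norm_num) le_rfl (by rw [hk]; omega)
  swap
  · have hP := card_sylow_of (p := 5) (a := 2) h hn' (by norm_num) P
    rw [h] at hmul
    have hN : Subgroup.normalizer ((P : Subgroup G) : Set G) = (P : Subgroup G) :=
      (Subgroup.eq_of_le_of_card_ge Subgroup.le_normalizer (by
        rw [show Nat.card (P : Subgroup G) = 5 ^ 2 from hP]; omega)).symm
    have hle : Subgroup.normalizer ((P : Subgroup G) : Set G) ≤
        Subgroup.centralizer ((P : Subgroup G) : Set G) := fun x hx => by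
      rw [hN] at hx
      haveI := IsPGroup.isMulCommutative_of_card_eq_prime_sq (G := (P : Subgroup G)) hP
      exact Subgroup.mem_centralizer_iff.2 fun y hy => congrArg Subtype.val
        (mul_comm' (⟨y, hy⟩ : (P : Subgroup G)) ⟨x, hx⟩)
    exact Fus.simple_no_complement hna (p := 5) (by rw [h]; norm_num)
      ⟨P, _, inferInstance, MonoidHom.ker_transferSylow_isComplement' P hle⟩
  -- thirty-six Sylow subgroups
  set NP := Subgroup.normalizer ((P : Subgroup G) : Set G) with hNP
  rw [h] at hmul
  have h150 : Nat.card NP = 150 := by omega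
  have hmod := card_modEq_near P
  rw [hk] at hmod
  let f : Sylow 5 G → Subgroup G := fun Q => (P : Subgroup G) ⊓ (Q : Subgroup G)
  set 𝒟 : Set (Subgroup G) := f '' near P with h𝒟
  -- each intersection belongs to five Sylow subgroups
  have hfib : ∀ Q ∈ near P, Set.ncard {R | R ∈ near P ∧ f R = f Q} = 5 := by
    intro Q hQ
    obtain ⟨-, hS⟩ := near_twelve hna h hn' (Or.inr rfl) hQ
    obtain ⟨hPN, hQN, hne, hDc⟩ := near_normalizes hQ
    have hP := card_sylow_of (p := 5) (a := 2) h hn' (by norm_num) P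
    set N := Subgroup.normalizer ((f Q : Subgroup G) : Set G) with hN
    have hset : {R | R ∈ near P ∧ f R = f Q} = {R : Sylow 5 G | (R : Subgroup G) ≤ N} \ {P} := by
      ext R
      constructor
      · rintro ⟨hR, hfR⟩
        obtain ⟨-, hRN, hneR, -⟩ := near_normalizes hR
        exact ⟨show (R : Subgroup G) ≤ N by rw [hN, ← hfR]; exact hRN, fun e => hneR (Set.mem_singleton_iff.1 e).symm⟩
      · rintro ⟨hRN, hRP⟩
        have hDR : f Q ≤ (R : Subgroup G) := by
          have hpg : IsPGroup 5 ((R : Subgroup G) ⊔ f Q : Subgroup G) := by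
            refine IsPGroup.to_sup_of_normal_right' R.isPGroup' (P.isPGroup'.to_le inf_le_left) ?_
            exact hRN
          exact (le_sup_right.trans (R.3 hpg le_sup_left).le)
        have hle : f Q ≤ f R := le_inf inf_le_left hDR
        have hfR : f R = f Q := by
          refine (Subgroup.eq_of_le_of_card_ge hle ?_).symm
          have hsub : Nat.card (f R) ∣ Nat.card (P : Subgroup G) := Subgroup.card_dvd_of_le inf_le_left
          rw [show Nat.card (P : Subgroup G) = 5 ^ 2 from hP] at hsub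
          rw [show Nat.card P = 5 ^ 2 from hP] at hDc
          have hlt : Nat.card (f R) ≠ 5 ^ 2 := by
            intro e
            have heq : f R = (P : Subgroup G) := Subgroup.eq_of_le_of_card_ge inf_le_left (by
              rw [e]; exact le_of_eq hP)
            exact hRP (Sylow.ext (P.3 R.isPGroup' (heq ▸ inf_le_right)))
          obtain ⟨i, hi, hi'⟩ := (Nat.dvd_prime_pow (by norm_num)).1 hsub
          have : Nat.card (f Q) = 5 := by
            show Nat.card ((P : Subgroup G) ⊓ (Q : Subgroup G) : Subgroup G) = 5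
            omega
          rw [hi', this]
          interval_cases i <;> first | omega | (norm_num; done)
        refine ⟨?_, hfR⟩
        show (f R).relIndex (P : Subgroup G) = 5
        rw [hfR]
        exact hQ
    rw [hset, Set.ncard_sdiff_singleton_of_mem (show P ∈ {R : Sylow 5 G | (R : Subgroup G) ≤ N} from hPN)]
    have : Nat.card {R : Sylow 5 G // (R : Subgroup G) ≤ N} = Nat.card (Sylow 5 N) := by
      refine Nat.card_eq_of_bijective (fun R => R.1.subtype R.2) ⟨fun R R' e => Subtype.ext
        (Sylow.subtype_injective (hP := R.2) (hQ := R'.2) e), fun Y => ?_⟩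
      have hY : Nat.card ((Y : Subgroup N).map N.subtype) = 5 ^ (Nat.card G).factorization 5 := by
        rw [Subgroup.card_map_of_injective N.subtype_injective, Y.card_eq_multiplicity,
          ← (P.subtype hPN : Sylow 5 N).card_eq_multiplicity, ← P.card_eq_multiplicity, Sylow.coe_subtype]
        exact Nat.card_congr (Subgroup.subgroupOfEquivOfLe hPN).toEquiv
      refine ⟨⟨Sylow.ofCard _ hY, by rw [Sylow.coe_ofCard]; exact Subgroup.map_subtype_le _⟩, Sylow.ext ?_⟩
      simp only [Sylow.coe_subtype, Sylow.coe_ofCard]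
      exact Subgroup.comap_map_eq_self_of_injective N.subtype_injective _
    rw [hS] at this
    rw [← Nat.card_coe_set_eq, show Nat.card {R : Sylow 5 G | (R : Subgroup G) ≤ N} = 6 from this]
  have hcount : (near P).ncard = 5 * 𝒟.ncard := by
    haveI := Fintype.ofFinite (Sylow 5 G)
    rw [h𝒟, Set.ncard_eq_toFinset_card' (near P), Set.ncard_eq_toFinset_card' (f '' near P), Set.toFinset_image,
      Finset.card_eq_sum_card_image f, Finset.sum_const_nat (m := 5), mul_comm]
    intro D hD
    obtain ⟨Q, hQ, rfl⟩ := Finset.mem_image.1 hD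
    rw [Set.mem_toFinset] at hQ
    refine Eq.trans ?_ (hfib Q hQ)
    rw [Set.ncard_eq_toFinset_card']
    congr 1
    ext R
    simp
  -- the normalizer of `P` permutes them in orbits of length three
  letI : MulAction NP (Subgroup G) := MulAction.compHom (Subgroup G) (MulAut.conj.comp NP.subtype)
  have hinv : ∀ D ∈ 𝒟, MulAction.orbit NP D ⊆ 𝒟 := by
    rintro _ ⟨Q, hQ, rfl⟩ _ ⟨g, rfl⟩
    have hgP : MulAut.conj (g : G) • (P : Subgroup G) = (P : Subgroup G) := by
      rw [← Sylow.coe_subgroup_smul]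
      exact congrArg _ (Sylow.smul_eq_iff_mem_normalizer.2 g.2)
    have hfe : f ((g : G) • Q) = g • f Q := by
      show (P : Subgroup G) ⊓ (((g : G) • Q : Sylow 5 G) : Subgroup G) =
        MulAut.conj (g : G) • ((P : Subgroup G) ⊓ (Q : Subgroup G))
      rw [Subgroup.smul_inf, hgP, Sylow.coe_subgroup_smul]
    refine ⟨(g : G) • Q, ?_, hfe⟩
    show (f ((g : G) • Q)).relIndex (P : Subgroup G) = 5
    rw [hfe]
    show (MulAut.conj (g : G) • f Q).relIndex (P : Subgroup G) = 5
    rw [← hgP, Subgroup.relIndex_pointwise_smul]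
    exact hQ
  have horb : ∀ D ∈ 𝒟, (MulAction.orbit NP D).ncard = 3 := by
    rintro _ ⟨Q, hQ, rfl⟩
    rw [← MulAction.index_stabilizer]
    have h50 := near_fifty hna h hn' (Or.inr rfl) hQ
    have hst : MulAction.stabilizer NP (f Q) =
        (NP ⊓ Subgroup.normalizer ((f Q : Subgroup G) : Set G)).subgroupOf NP := by
      ext g
      rw [MulAction.mem_stabilizer_iff, Subgroup.mem_subgroupOf, Subgroup.mem_inf, and_iff_right g.2,
        Subgroup.mem_normalizer_iff, SetLike.ext_iff]
      constructor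
      · intro he b
        have h1 := he ((g : G) * b * (g : G)⁻¹)
        rw [show g • f Q = MulAut.conj (g : G) • f Q from rfl,
          Subgroup.mem_pointwise_smul_iff_inv_smul_mem] at h1
        simpa [MulAut.smul_def, mul_assoc] using h1
      · intro he b
        rw [show g • f Q = MulAut.conj (g : G) • f Q from rfl, Subgroup.mem_pointwise_smul_iff_inv_smul_mem]
        have h1 := he ((g : G)⁻¹ * b * (g : G))
        simpa [MulAut.smul_def, mul_assoc] using h1
    have h1 := (MulAction.stabilizer NP (f Q)).card_mul_index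
    have h2 : Nat.card (MulAction.stabilizer NP (f Q)) = 50 := by
      rw [hst, Nat.card_congr (Subgroup.subgroupOfEquivOfLe inf_le_left).toEquiv]
      exact h50
    rw [h2, h150] at h1
    omega
  have h3 := Transfer.dvd_ncard_of_orbits 𝒟 hinv horb
  have hle : (near P).ncard ≤ 36 := (Set.ncard_le_ncard (Set.subset_univ _) (Set.toFinite _)).trans
    (by rw [Set.ncard_univ, hk])
  obtain ⟨t, ht⟩ := h3
  rw [hcount, ht, Nat.modEq_iff_dvd] at hmod
  obtain ⟨u, hu⟩ := hmod
  push_cast at hu
  omega

/-- The degrees outside the principal block at a prime with a self-centralizing Sylow subgroup, when every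
other configuration is impossible. -/
def degSelf (n p B : ℕ) (post : ℕ → Bool) : Bool :=
  let m := n / p
  primeB p && decide (2 < p) && n % p == 0 && m % p != 0 &&
    (p * (p - 1) * (p + 1)) % (2 * (p * m)) != 0 && decide (n ≤ B * B) &&
    (List.range (m + 1)).all fun k => !(decide (1 < k) && m % (p * k + 1) == 0) ||
      (List.range p).all fun e => !(decide (1 < e) && (p - 1) % e == 0 && (m / (p * k + 1)) % e == 0) ||
        degTest n p B e (m / (p * k + 1) / e != 1) (fun _ => true) (fun _ => false) ||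
        (m / (p * k + 1) / e == 1 && degTest n p B e false (fun _ => true) post)

theorem degrees_of_degSelf (hna : ¬ IsMulCommutative G) {n p B : ℕ} (h : Nat.card G = n) (post : ℕ → Bool)
    (ht : degSelf n p B post = true) (χ : IrrCharacter G) (hχ : χ ≠ trivialIrr G) :
    (charDegree (χ : G → ℂ) % p == 0 || post (charDegree (χ : G → ℂ))) = true := by
  simp only [degSelf, Bool.and_eq_true, decide_eq_true_iff, beq_iff_eq, bne_iff_ne, ne_eq,
    List.all_eq_true, List.mem_range, Bool.or_eq_true, Bool.not_eq_true'] at ht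
  obtain ⟨⟨⟨⟨⟨⟨hpB, hp2⟩, hdiv⟩, hnp⟩, hfac⟩, hB⟩, hall⟩ := ht
  have hp := prime_of_primeB hpB
  haveI := Fact.mk hp
  have hcard : Nat.card G = p * (n / p) := by rw [h, Nat.mul_div_cancel' (Nat.dvd_of_mod_eq_zero hdiv)]
  have hpm : ¬ p ∣ n / p := fun hd => hnp (Nat.mod_eq_zero_of_dvd hd)
  obtain ⟨P⟩ : Nonempty (Sylow p G) := inferInstance
  obtain ⟨e, k, c, hk1, hkm, he, he1, hep, hc, hprod⟩ :=
    OrdP.exists_e' hna hcard hpm (by omega) (fun hd => hfac (Nat.mod_eq_zero_of_dvd hd)) P
  have hm0 : 0 < n / p := Nat.pos_of_ne_zero fun e => hpm (by rw [e]; exact dvd_zero p)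
  have hle := Nat.le_of_dvd hm0 hkm
  have hkle : k ≤ n / p := le_trans (Nat.le_mul_of_pos_left k hp.pos) (by omega)
  have hep' : e < p := lt_of_le_of_lt (Nat.le_of_dvd (by omega) hep) (by omega)
  have hdivk : n / p / (p * k + 1) / e = c := by
    conv_lhs => rw [← hprod]
    rw [Nat.mul_div_cancel _ (by omega), Nat.mul_div_cancel _ (by omega : 0 < e)]
  have hce : n / p / (p * k + 1) = c * e := by
    conv_lhs => rw [← hprod]
    exact Nat.mul_div_cancel _ (by omega)
  have hP := OrdP.card_sylow_eq hcard hpm P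
  rcases hall k (by omega) with hh | hh
  · simp [hk1, Nat.mod_eq_zero_of_dvd hkm] at hh
  rcases hh e hep' with (hh' | hh') | hh'
  · simp [he1, Nat.mod_eq_zero_of_dvd hep, hce] at hh'
  · exact (deg_elim hna (c := c) h hpm (by omega) P hP
      ⟨e * (p * k + 1), by rw [← mul_assoc]; exact hprod.symm⟩ he he1 hep hc _ (fun _ _ => rfl) hB
      (by rwa [hdivk] at hh')).elim
  · obtain ⟨hc1, hdeg⟩ := hh'
    rw [hdivk] at hc1
    subst hc1
    have h' := self_degrees hna h hpm (by omega) P hP he he1 hep hc (fun _ => true) post (fun _ _ => rfl) hB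
      hdeg χ hχ
    simpa using h'

theorem ne_4620 (hna : ¬ IsMulCommutative G) : Nat.card G ≠ 4620 := fun h =>
  false_of_degKill hna (p := 7) (B := 420) h (fun d => d % 11 == 0 || (d == 20 || d == 21))
    (degrees_of_degSelf hna (p := 11) (B := 420) h (fun d => d == 20 || d == 21) (by decide +kernel)) (by decide +kernel)

theorem ne_5460 (hna : ¬ IsMulCommutative G) : Nat.card G ≠ 5460 := fun h =>
  false_of_degKill hna (p := 7) (B := 420) h (fun d => d % 13 == 0 || (d == 12 || d == 35))
    (degrees_of_degSelf hna (p := 13) (B := 420) h (fun d => d == 12 || d == 35) (by decide +kernel)) (by decide +kernel)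

end Cfsg.Agent.Block.SmallOrd
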