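import Mathlib
import Cfsg.Agent.Lib.Block.SmallOrd.Kill
import Cfsg.Agent.Lib.Block.SmallOrd.Inter

/-!
No simple group of order a proper divisor of 175560 divisible by 19.
-/

set_option autoImplicit false

namespace Cfsg.Agent.Block.SmallOrd

open Cfsg Cfsg.Agent.Block Cfsg.Agent.Char

universe u

/-- The surviving configurations at `p`. -/
def optsTest (n p B : ℕ) (L : List (ℕ × ℕ)) : Bool :=
  let m := n / p
  primeB p && decide (2 < p) && n % p == 0 && m % p != 0 &&
    (p * (p - 1) * (p + 1)) % (2 * (p * m)) != 0 && decide (n ≤ B * B) &&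
    (List.range (m + 1)).all fun k => !(decide (1 < k) && m % (p * k + 1) == 0) ||
      (decide (p * k + 1 < 30) && (p * k + 1).factorial % (2 * n) != 0) ||
      (List.range p).all fun e => !(decide (1 < e) && (p - 1) % e == 0 && (m / (p * k + 1)) % e == 0) ||
        degTest n p B e (m / (p * k + 1) / e != 1) (fun _ => true) (fun _ => false) ||
        L.contains (p * k + 1, m / (p * k + 1) / e)

section
variable {G : Type u} [Group G] [Finite G] [IsSimpleGroup G]

theorem options_of_test (hna : ¬ IsMulCommutative G) {n p B : ℕ} [hp : Fact p.Prime] (h : Nat.card G = n)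
    (L : List (ℕ × ℕ)) (ht : optsTest n p B L = true) :
    (∀ P : Sylow p G, Nat.card P = p) ∧ ∀ P : Sylow p G, ∃ c : ℕ, (Nat.card (Sylow p G), c) ∈ L ∧
      Nat.card (Subgroup.centralizer ((P : Subgroup G) : Set G)) = p * c := by
  simp only [optsTest, Bool.and_eq_true, decide_eq_true_iff, beq_iff_eq, bne_iff_ne, ne_eq,
    List.all_eq_true, List.mem_range, Bool.or_eq_true, Bool.not_eq_true'] at ht
  obtain ⟨⟨⟨⟨⟨⟨-, hp2⟩, hdiv⟩, hnp⟩, hfac⟩, hB⟩, hall⟩ := ht
  have hcard : Nat.card G = p * (n / p) := by rw [h, Nat.mul_div_cancel' (Nat.dvd_of_mod_eq_zero hdiv)]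
  have hpm : ¬ p ∣ n / p := fun hd => hnp (Nat.mod_eq_zero_of_dvd hd)
  refine ⟨OrdP.card_sylow_eq hcard hpm, fun P => ?_⟩
  obtain ⟨e, k, c, hk1, hkm, he, he1, hep, hc, hprod⟩ :=
    OrdP.exists_e' hna hcard hpm (by omega) (fun hd => hfac (Nat.mod_eq_zero_of_dvd hd)) P
  have hm0 : 0 < n / p := Nat.pos_of_ne_zero fun e => hpm (by rw [e]; exact dvd_zero p)
  have hle := Nat.le_of_dvd hm0 hkm
  have hkle : k ≤ n / p := le_trans (Nat.le_mul_of_pos_left k hp.out.pos) (by omega)
  have hp1 := hp.out.one_lt
  have hep' : e < p := lt_of_le_of_lt (Nat.le_of_dvd (by omega) hep) (by omega)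
  have hce : n / p / (p * k + 1) = c * e := by
    conv_lhs => rw [← hprod]
    exact Nat.mul_div_cancel _ (by omega)
  have hdivk : n / p / (p * k + 1) / e = c := by
    rw [hce, Nat.mul_div_cancel _ (by omega : 0 < e)]
  obtain ⟨k', -, hk', -, -, hmul', hfac'⟩ :=
    small_sylow_number hna P (a := 1) (m := n / p) (by rw [pow_one, hcard]) one_ne_zero
  have hCN := Subgroup.centralizer_le_normalizer ((P : Subgroup G) : Set G)
  have h1 : Nat.card (Subgroup.centralizer ((P : Subgroup G) : Set G)) * e =
      Nat.card (Subgroup.normalizer ((P : Subgroup G) : Set G)) := by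
    rw [← he, Subgroup.relIndex, ← Nat.card_congr (Subgroup.subgroupOfEquivOfLe hCN).toEquiv,
      Subgroup.card_mul_index]
  rw [hc] at h1
  rw [← h1, hcard, ← hprod] at hmul'
  have h2 : p * k' + 1 = p * k + 1 := by
    refine Nat.eq_of_mul_eq_mul_left (Nat.pos_of_ne_zero fun e0 => ?_)
      (hmul'.trans (by ring : p * (c * e * (p * k + 1)) = p * c * e * (p * k + 1)))
    rw [e0] at h1
    exact (Nat.card_pos (α := Subgroup.normalizer ((P : Subgroup G) : Set G))).ne h1
  refine ⟨c, ?_, hc⟩
  rw [hk', h2]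
  rcases hall k (by omega) with (hh | hh) | hh
  · simp [hk1, Nat.mod_eq_zero_of_dvd hkm] at hh
  · rw [h2, h] at hfac'
    exact (hh.2 (Nat.mod_eq_zero_of_dvd hfac')).elim
  rcases hh e hep' with (hh' | hh') | hh'
  · simp [he1, Nat.mod_eq_zero_of_dvd hep, hce] at hh'
  · exact (deg_elim hna (c := c) h hpm (by omega) P (OrdP.card_sylow_eq hcard hpm P)
      ⟨e * (p * k + 1), by rw [← mul_assoc]; exact hprod.symm⟩ he he1 hep hc _ (fun _ _ => rfl) hB
      (by rwa [hdivk] at hh')).elim
  · simpa [hdivk] using hh'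

end

section
variable {G : Type u} [Group G] [Finite G] {p q : ℕ} [hp : Fact p.Prime] [hq : Fact q.Prime]

/-- An element commuting with one of order `p` divides the centralizer of a Sylow subgroup of order `p`. -/
theorem dvd_cent (hP : ∀ P : Sylow p G, Nat.card P = p) {u v : G} (hu : orderOf u = p)
    (hv : orderOf v = q) (huv : Commute u v) :
    ∃ P : Sylow p G, q ∣ Nat.card (Subgroup.centralizer ((P : Subgroup G) : Set G)) := by
  obtain ⟨P⟩ : Nonempty (Sylow p G) := inferInstance
  refine ⟨Sylow.ofCard (Subgroup.zpowers u) (by rw [Nat.card_zpowers, hu, ← P.card_eq_multiplicity, hP P]), ?_⟩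
  rw [← hv]
  refine Subgroup.orderOf_dvd_natCard _ ?_
  rw [Sylow.coe_ofCard, Subgroup.mem_centralizer_iff]
  intro y hy
  obtain ⟨i, rfl⟩ := Subgroup.mem_zpowers_iff.1 hy
  exact (huv.zpow_left i).eq

/-- A cross centralizer. -/
theorem cross_dvd (hP : ∀ P : Sylow q G, Nat.card P = q) (P : Sylow p G) (hPc : Nat.card P = p)
    (hd : q ∣ Nat.card (Subgroup.centralizer ((P : Subgroup G) : Set G))) :
    ∃ Q : Sylow q G, p ∣ Nat.card (Subgroup.centralizer ((Q : Subgroup G) : Set G)) := by
  obtain ⟨v, hv⟩ := exists_prime_orderOf_dvd_card' q hd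
  obtain ⟨u, hu⟩ := exists_prime_orderOf_dvd_card' (G := (P : Subgroup G)) p
    (by rw [show Nat.card (P : Subgroup G) = p from hPc])
  refine dvd_cent hP (u := (v : G)) (v := (u : G)) (by rw [Subgroup.orderOf_coe, hv])
    (by rw [Subgroup.orderOf_coe, hu]) ?_
  exact (Subgroup.mem_centralizer_iff.1 v.2 u u.2).symm

omit [Fact q.Prime] in
/-- The `p`-singular elements counted through the centralizers of the Sylow subgroups of order `p`. -/
theorem singular_count (hP : ∀ P : Sylow p G, Nat.card P = p) {c : ℕ}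
    (hC : ∀ P : Sylow p G, Nat.card (Subgroup.centralizer ((P : Subgroup G) : Set G)) = p * c) :
    Nat.card (Sylow p G) * ((p - 1) * c) ≤ Set.ncard {g : G | p ∣ orderOf g} := by
  classical
  haveI := Fintype.ofFinite G
  haveI := Fintype.ofFinite (Sylow p G)
  have hpp : p.Prime := hp.out
  let A : Sylow p G → Finset G := fun P => Finset.univ.filter fun g =>
    g ∈ Subgroup.centralizer ((P : Subgroup G) : Set G) ∧ p ∣ orderOf g
  have hle : ∀ P, (p - 1) * c ≤ (A P).card := by
    intro P
    set C := Finset.univ.filter fun g : G => g ∈ Subgroup.centralizer ((P : Subgroup G) : Set G) with hCdef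
    set R := Finset.univ.filter fun g : G =>
      g ∈ Subgroup.centralizer ((P : Subgroup G) : Set G) ∧ ¬ p ∣ orderOf g with hR
    set PP := Finset.univ.filter fun g : G => g ∈ (P : Subgroup G) with hPP
    have hCc : C.card = p * c := by
      rw [← hC P, Nat.card_eq_fintype_card, Fintype.card_subtype]
    have hPc : PP.card = p := by
      rw [← hP P, Nat.card_eq_fintype_card, Fintype.card_subtype]
    have hsplit : (A P).card + R.card = C.card := by
      rw [← Finset.card_union_of_disjoint (Finset.disjoint_left.2 fun g h h' =>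
        (Finset.mem_filter.1 h').2.2 (Finset.mem_filter.1 h).2.2)]
      congr 1
      ext g
      simp only [A, hR, hCdef, Finset.mem_union, Finset.mem_filter, Finset.mem_univ, true_and]
      tauto
    have hpow : ∀ u ∈ (P : Subgroup G), u ^ p = 1 := fun u hu => by
      have := pow_card_eq_one' (x := (⟨u, hu⟩ : (P : Subgroup G)))
      rw [show Nat.card (P : Subgroup G) = p from hP P] at this
      exact congrArg Subtype.val this
    have hinj : (PP ×ˢ R).card ≤ C.card := by
      refine Finset.card_le_card_of_injOn (fun x => x.1 * x.2) (fun x hx => ?_) (fun x hx y hy hxy => ?_)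
      · simp only [hPP, hR, Finset.mem_coe, Finset.mem_product, Finset.mem_filter, Finset.mem_univ, true_and] at hx
        simp only [hCdef, Finset.mem_coe, Finset.mem_filter, Finset.mem_univ, true_and]
        refine mul_mem ?_ hx.2.1
        exact Subgroup.mem_centralizer_iff.2 fun z hz => by
          haveI : IsCyclic (P : Subgroup G) := isCyclic_of_prime_card (hP P)
          letI := IsCyclic.commGroup (α := (P : Subgroup G))
          exact congrArg Subtype.val (mul_comm (⟨z, hz⟩ : (P : Subgroup G)) ⟨x.1, hx.1⟩)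
      · simp only [hPP, hR, Finset.mem_coe, Finset.mem_product, Finset.mem_filter, Finset.mem_univ, true_and] at hx hy
        have hcx : Commute x.1 x.2 := Subgroup.mem_centralizer_iff.1 hx.2.1 _ hx.1
        have hcy : Commute y.1 y.2 := Subgroup.mem_centralizer_iff.1 hy.2.1 _ hy.1
        have e1 : x.2 ^ p = y.2 ^ p := by
          have h := congrArg (· ^ p) hxy
          simpa [hcx.mul_pow, hcy.mul_pow, hpow _ hx.1, hpow _ hy.1] using h
        obtain ⟨l, hl⟩ := exists_pow_eq_self_of_coprime (hpp.coprime_iff_not_dvd.2 hx.2.2)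
        have hxy2 : Commute x.2 y.2 := by
          rw [← hl, e1, ← pow_mul]
          exact Commute.pow_self y.2 _
        have h2 : x.2 * y.2⁻¹ = 1 := by
          rw [← orderOf_eq_one_iff]
          have hd : orderOf (x.2 * y.2⁻¹) ∣ p :=
            orderOf_dvd_of_pow_eq_one (by rw [hxy2.inv_right.mul_pow, inv_pow, e1, mul_inv_cancel])
          refine ((Nat.dvd_prime hpp).1 hd).resolve_right fun e => ?_
          have hd' := hxy2.inv_right.orderOf_mul_dvd_lcm
          rw [orderOf_inv, e] at hd'
          rcases hpp.dvd_mul.1 (hd'.trans (Nat.lcm_dvd_mul _ _)) with h | h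
          · exact hx.2.2 h
          · exact hy.2.2 h
        have h2' := mul_inv_eq_one.1 h2
        refine Prod.ext ?_ h2'
        have hxy' : x.1 * x.2 = y.1 * y.2 := hxy
        rw [h2'] at hxy'
        exact mul_right_cancel hxy'
    rw [Finset.card_product, hPc, hCc] at hinj
    have hRc : R.card ≤ c := Nat.le_of_mul_le_mul_left hinj hpp.pos
    rw [Nat.sub_mul, one_mul]
    omega
  have hdis : (↑(Finset.univ : Finset (Sylow p G)) : Set (Sylow p G)).PairwiseDisjoint A := by
    intro P _ Q _ hne
    rw [Function.onFun, Finset.disjoint_left]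
    intro g hg hg'
    simp only [A, Finset.mem_filter, Finset.mem_univ, true_and] at hg hg'
    have key : ∀ X : Sylow p G, g ∈ Subgroup.centralizer ((X : Subgroup G) : Set G) →
        Subgroup.zpowers (g ^ (orderOf g / p)) = (X : Subgroup G) := by
      intro X hX
      have hou : orderOf (g ^ (orderOf g / p)) = p := orderOf_pow_orderOf_div (orderOf_pos g).ne' hg.2
      have hz : IsPGroup p (Subgroup.zpowers (g ^ (orderOf g / p))) :=
        IsPGroup.of_card (n := 1) (by rw [Nat.card_zpowers, hou, pow_one])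
      have hsup : IsPGroup p (Subgroup.zpowers (g ^ (orderOf g / p)) ⊔ (X : Subgroup G) : Subgroup G) :=
        IsPGroup.to_sup_of_normal_right' hz X.isPGroup' (Subgroup.zpowers_le.2
          (Subgroup.centralizer_le_normalizer _ (pow_mem hX _)))
      exact Subgroup.eq_of_le_of_card_ge (le_sup_left.trans (X.3 hsup le_sup_right).le)
        (by rw [Nat.card_zpowers, hou]; exact le_of_eq (hP X))
    exact hne (Sylow.ext ((key P hg.1).symm.trans (key Q hg'.1)))
  calc Nat.card (Sylow p G) * ((p - 1) * c) = ∑ _P : Sylow p G, (p - 1) * c := by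
        rw [Finset.sum_const, Finset.card_univ, Nat.card_eq_fintype_card, smul_eq_mul]
    _ ≤ ∑ P : Sylow p G, (A P).card := Finset.sum_le_sum fun P _ => hle P
    _ = ((Finset.univ : Finset (Sylow p G)).biUnion A).card := (Finset.card_biUnion hdis).symm
    _ ≤ _ := by
        rw [Set.ncard_eq_toFinset_card']
        refine Finset.card_le_card fun g hg => ?_
        obtain ⟨P, -, h⟩ := Finset.mem_biUnion.1 hg
        exact Set.mem_toFinset.2 (Finset.mem_filter.1 h).2.2

end

section
variable {G : Type u} [Group G] [Finite G] [IsSimpleGroup G]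

theorem ne_58520 (hna : ¬ IsMulCommutative G) : Nat.card G ≠ 58520 := by
  intro h
  haveI : Fact (Nat.Prime 5) := ⟨by norm_num⟩
  haveI : Fact (Nat.Prime 7) := ⟨by norm_num⟩
  haveI : Fact (Nat.Prime 11) := ⟨by norm_num⟩
  haveI : Fact (Nat.Prime 19) := ⟨by norm_num⟩
  obtain ⟨hP5, o5⟩ := options_of_test hna (p := 5) (B := 420) h
    [(76, 77), (266, 22), (266, 11), (836, 7), (2926, 2), (2926, 1)] (by decide +kernel)
  obtain ⟨hP7, o7⟩ := options_of_test hna (p := 7) (B := 420) h
    [(22, 190), (190, 22), (4180, 1)] (by decide +kernel)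
  obtain ⟨hP11, o11⟩ := options_of_test hna (p := 11) (B := 420) h [(56, 19), (133, 8)] (by decide +kernel)
  obtain ⟨hP19, o19⟩ := options_of_test hna (p := 19) (B := 420) h [(77, 20), (1540, 1)] (by decide +kernel)
  -- no element of order 19 commutes with one of order 5, 7 or 11
  have no11 : ∀ Q : Sylow 19 G, ¬ 11 ∣ Nat.card (Subgroup.centralizer ((Q : Subgroup G) : Set G)) := by
    intro Q hd
    obtain ⟨c, hL, hc⟩ := o19 Q
    simp only [List.mem_cons, Prod.mk.injEq, List.not_mem_nil, or_false] at hL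
    rcases hL with ⟨-, rfl⟩ | ⟨-, rfl⟩ <;> (rw [hc] at hd; norm_num at hd)
  have h11 : ∀ P : Sylow 11 G, Nat.card (Sylow 11 G) = 133 ∧
      Nat.card (Subgroup.centralizer ((P : Subgroup G) : Set G)) = 11 * 8 := by
    intro P
    obtain ⟨c, hL, hc⟩ := o11 P
    simp only [List.mem_cons, Prod.mk.injEq, List.not_mem_nil, or_false] at hL
    rcases hL with ⟨-, rfl⟩ | ⟨hn, rfl⟩
    · obtain ⟨Q, hQ⟩ := cross_dvd (q := 19) hP19 P (hP11 P) (by rw [hc]; norm_num)
      exact (no11 Q hQ).elim
    · exact ⟨hn, hc⟩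
  have h7 : ∀ P : Sylow 7 G, Nat.card (Sylow 7 G) = 4180 ∧
      Nat.card (Subgroup.centralizer ((P : Subgroup G) : Set G)) = 7 * 1 := by
    intro P
    obtain ⟨c, hL, hc⟩ := o7 P
    simp only [List.mem_cons, Prod.mk.injEq, List.not_mem_nil, or_false] at hL
    rcases hL with ⟨-, rfl⟩ | ⟨-, rfl⟩ | ⟨hn, rfl⟩
    · obtain ⟨Q, hQ⟩ := cross_dvd (q := 19) hP19 P (hP7 P) (by rw [hc]; norm_num)
      obtain ⟨c, hL, hc'⟩ := o19 Q
      simp only [List.mem_cons, Prod.mk.injEq, List.not_mem_nil, or_false] at hL
      rcases hL with ⟨-, rfl⟩ | ⟨-, rfl⟩ <;> (rw [hc'] at hQ; norm_num at hQ)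
    · obtain ⟨Q, hQ⟩ := cross_dvd (q := 11) hP11 P (hP7 P) (by rw [hc]; norm_num)
      rw [(h11 Q).2] at hQ
      norm_num at hQ
    · exact ⟨hn, hc⟩
  have h19 : ∀ P : Sylow 19 G, Nat.card (Sylow 19 G) = 1540 ∧
      Nat.card (Subgroup.centralizer ((P : Subgroup G) : Set G)) = 19 * 1 := by
    intro P
    obtain ⟨c, hL, hc⟩ := o19 P
    simp only [List.mem_cons, Prod.mk.injEq, List.not_mem_nil, or_false] at hL
    rcases hL with ⟨-, rfl⟩ | ⟨hn, rfl⟩
    · obtain ⟨Q, hQ⟩ := cross_dvd (q := 5) hP5 P (hP19 P) (by rw [hc]; norm_num)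
      obtain ⟨c, hL, hc'⟩ := o5 Q
      simp only [List.mem_cons, Prod.mk.injEq, List.not_mem_nil, or_false] at hL
      rcases hL with ⟨-, rfl⟩ | ⟨-, rfl⟩ | ⟨-, rfl⟩ | ⟨-, rfl⟩ | ⟨-, rfl⟩ | ⟨-, rfl⟩ <;> (rw [hc'] at hQ; norm_num at hQ)
    · exact ⟨hn, hc⟩
  obtain ⟨P7⟩ : Nonempty (Sylow 7 G) := inferInstance
  obtain ⟨P11⟩ : Nonempty (Sylow 11 G) := inferInstance
  obtain ⟨P19⟩ : Nonempty (Sylow 19 G) := inferInstance
  have c7 := singular_count hP7 fun P => (h7 P).2
  have c11 := singular_count hP11 fun P => (h11 P).2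
  have c19 := singular_count hP19 fun P => (h19 P).2
  rw [(h7 P7).1] at c7
  rw [(h11 P11).1] at c11
  rw [(h19 P19).1] at c19
  -- the three sets are disjoint
  have key : ∀ {p q : ℕ} [Fact p.Prime] [Fact q.Prime], (∀ P : Sylow p G, Nat.card P = p) →
      (∀ P : Sylow p G, ¬ q ∣ Nat.card (Subgroup.centralizer ((P : Subgroup G) : Set G))) →
      Disjoint {g : G | p ∣ orderOf g} {g : G | q ∣ orderOf g} := by
    intro p q _ _ hP hno
    rw [Set.disjoint_left]
    intro g hgp hgq
    obtain ⟨P, hd⟩ := dvd_cent hP (u := g ^ (orderOf g / p)) (v := g ^ (orderOf g / q))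
      (orderOf_pow_orderOf_div (orderOf_pos g).ne' hgp) (orderOf_pow_orderOf_div (orderOf_pos g).ne' hgq)
      (Commute.pow_pow (Commute.refl g) _ _)
    exact hno P hd
  have d1 := key (p := 19) (q := 7) hP19 fun P => by rw [(h19 P).2]; norm_num
  have d2 := key (p := 19) (q := 11) hP19 fun P => by rw [(h19 P).2]; norm_num
  have d3 := key (p := 7) (q := 11) hP7 fun P => by rw [(h7 P).2]; norm_num
  have htot := Set.ncard_le_ncard (Set.subset_univ
    (({g : G | 19 ∣ orderOf g} ∪ {g : G | 7 ∣ orderOf g}) ∪ {g : G | 11 ∣ orderOf g})) (Set.toFinite _)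
  rw [Set.ncard_univ, h, Set.ncard_union_eq (Set.disjoint_union_left.2 ⟨d2, d3⟩) (Set.toFinite _) (Set.toFinite _),
    Set.ncard_union_eq d1 (Set.toFinite _) (Set.toFinite _)] at htot
  omega

/-- The certified orders. -/
def certs19 : List (ℕ × Cert) := [
  (19, .two 19 1 2 0), (38, .two 2 1 19 1), (57, .two 3 1 19 1), (76, .two 2 2 19 1), (95, .two 5 1 19 1), (114, .large 19),
  (133, .two 7 1 19 1), (152, .two 2 3 19 1), (190, .large 19), (209, .two 11 1 19 1), (228, .large 19), (266, .large 19),
  (285, .large 19), (380, .large 19), (399, .large 19), (418, .large 19), (456, .large 19), (532, .large 19),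
  (570, .large 19), (627, .large 19), (665, .large 19), (760, .large 19), (798, .large 19), (836, .large 19),
  (1045, .large 19), (1064, .large 19), (1140, .large 19), (1254, .large 19), (1330, .large 19), (1463, .large 19),
  (1596, .large 19), (1672, .large 19), (1995, .large 19), (2090, .large 19), (2280, .large 19), (2508, .large 19),
  (2660, .large 19), (2926, .large 19), (3135, .large 19), (3192, .large 19), (3990, .deg 19), (4180, .syl 19 1),
  (4389, .deg 19), (5016, .syl 19 1), (5320, .syl 19 1), (5852, .deg 19), (6270, .syl 19 1), (7315, .syl 7 1),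
  (7980, .deg 5), (8360, .syl 19 1), (8778, .deg 19), (11704, .deg 19), (12540, .syl 19 1), (14630, .deg 19),
  (15960, .deg 19), (17556, .deg 19), (21945, .deg 19), (25080, .syl 19 1), (29260, .deg 19), (35112, .deg 7),
  (43890, .deg 19), (87780, .deg 19)]

theorem certs19_ok : (certs19.all fun x => check x.1 x.2) = true := by decide +kernel

theorem certs19_cover : ((List.range 9240).all fun m =>
    9240 % m != 0 || 19 * m == 58520 || certs19.any fun x => x.1 == 19 * m) = true := by decide +kernel

/-- A simple group of order a proper divisor of 175560 divisible by 19 is commutative. -/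
theorem simple_nineteen {n : ℕ} (h : Nat.card G = n) (hd : n ∣ 175560) (hlt : n < 175560) (h19 : 19 ∣ n) :
    IsMulCommutative G := by
  by_contra hna
  obtain ⟨m, rfl⟩ := h19
  have hm : m ∣ 9240 := Nat.dvd_of_mul_dvd_mul_left (by norm_num : 0 < 19) (by norm_num; exact hd)
  have hall := List.all_eq_true.1 certs19_cover m (List.mem_range.2 (by omega))
  rw [Nat.mod_eq_zero_of_dvd hm] at hall
  simp only [bne_self_eq_false, Bool.false_or, Bool.or_eq_true, beq_iff_eq] at hall
  rcases hall with h' | h'
  · exact ne_58520 hna (h.trans h')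
  · exact false_of_list hna certs19 certs19_ok (by rw [h]; exact h')

end

/-- One step of the induction: the order may also be 175560 when the group is not simple. -/
theorem step [hp : Fact (Nat.Prime 19)] (n : ℕ) (G : Type u) [Group G] [Finite G] (hn : Nat.card G = n)
    (hd : n ∣ 175560) (hs : n < 175560 ∨ ¬ IsSimpleGroup G)
    (ih : ∀ m < n, ∀ (H : Type u) [Group H] [Finite H], Nat.card H = m → m ∣ 175560 → m < 175560 →
      ∀ P : Sylow 19 H, (P : Subgroup H).Normal) (P : Sylow 19 G) : (P : Subgroup G).Normal := by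
  classical
  subst hn
  have hn0 : 0 < Nat.card G := Nat.card_pos
  have hle := Nat.le_of_dvd (by norm_num) hd
  by_cases h19 : 19 ∣ Nat.card G
  swap
  · rw [show (P : Subgroup G) = ⊥ from by
      rw [← Subgroup.card_eq_one, P.card_eq_multiplicity, Nat.factorization_eq_zero_of_not_dvd h19, pow_zero]]
    infer_instance
  have hP : Nat.card P = 19 := by
    have h1 : (Nat.card G).factorization 19 = 1 := by
      apply le_antisymm
      · have h2 := (Nat.factorization_le_iff_dvd Nat.card_pos.ne' (by norm_num)).2 hd 19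
        have h3 : (175560 : ℕ).factorization 19 = 1 := by
          rw [show (175560 : ℕ) = 19 * 9240 by norm_num, Nat.factorization_mul (by norm_num) (by norm_num),
            Finsupp.add_apply, hp.out.factorization_self,
            Nat.factorization_eq_zero_of_not_dvd (by norm_num : ¬ 19 ∣ 9240)]
        rwa [h3] at h2
      · exact hp.out.factorization_pos_of_dvd Nat.card_pos.ne' h19
    rw [P.card_eq_multiplicity, h1, pow_one]
  by_cases hsimple : IsSimpleGroup G
  · have := simple_nineteen rfl hd (hs.resolve_right (fun h => h hsimple)) h19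
    exact ⟨fun z hz g => by rwa [mul_comm' g z, mul_inv_cancel_right]⟩
  haveI : Nontrivial G := Finite.one_lt_card_iff_nontrivial.1
    (lt_of_lt_of_le (by norm_num) (Nat.le_of_dvd hn0 h19))
  obtain ⟨N, hN, hN0, hN1⟩ : ∃ N : Subgroup G, N.Normal ∧ N ≠ ⊥ ∧ N ≠ ⊤ := by
    by_contra hno
    push Not at hno
    exact hsimple ⟨fun N hN => or_iff_not_imp_left.2 fun h => hno N hN h⟩
  haveI := hN
  -- a normal proper subgroup containing a Sylow 19-subgroup suffices
  have finish : ∀ M : Subgroup G, M.Normal → M ≠ ⊤ → (P : Subgroup G) ≤ M → (P : Subgroup G).Normal := by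
    intro M hM hM1 hPM
    have hMlt : Nat.card M < Nat.card G := by
      rcases Nat.lt_or_ge (Nat.card M) (Nat.card G) with h | h
      · exact h
      · exact absurd (M.eq_top_of_le_card h) hM1
    haveI := ih _ hMlt M rfl ((Subgroup.card_subgroup_dvd_card M).trans hd) (by omega) (P.subtype hPM)
    have hchar := Sylow.characteristic_of_normal (P.subtype hPM) inferInstance
    rw [Sylow.coe_subtype] at hchar
    haveI := hM
    have := ConjAct.normal_of_characteristic_of_normal (H := M) (K := (P : Subgroup G).subgroupOf M)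
    rwa [Subgroup.subgroupOf_map_subtype, inf_eq_left.2 hPM] at this
  by_cases hN19 : 19 ∣ Nat.card N
  · refine finish N hN hN1 ?_
    -- every Sylow 19-subgroup lies in `N`
    obtain ⟨x, hx⟩ := exists_prime_orderOf_dvd_card' 19 hN19
    obtain ⟨Q, hQ⟩ := (IsPGroup.of_card (n := 1) (by rw [Nat.card_zpowers, pow_one, Subgroup.orderOf_coe, hx]) :
      IsPGroup 19 (Subgroup.zpowers (x : G))).exists_le_sylow
    have hQN : (Q : Subgroup G) ≤ N := by
      rw [← Subgroup.eq_of_le_of_card_ge hQ (by
        rw [Nat.card_zpowers, Subgroup.orderOf_coe, hx, Q.card_eq_multiplicity, ← P.card_eq_multiplicity]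
        exact le_of_eq hP)]
      exact Subgroup.zpowers_le.2 x.2
    obtain ⟨g, rfl⟩ := MulAction.exists_smul_eq G Q P
    intro y hy
    rw [Sylow.coe_subgroup_smul, Subgroup.mem_pointwise_smul_iff_inv_smul_mem] at hy
    have h1 := hN.conj_mem _ (hQN hy) g
    simpa [MulAut.smul_def, mul_assoc] using h1
  -- the Sylow subgroup of the quotient is normal
  have hqlt : Nat.card (G ⧸ N) < Nat.card G := by
    rw [← Subgroup.index_eq_card]
    have h1 := N.card_mul_index
    have h2 : 1 < Nat.card N := (Subgroup.one_lt_card_iff_ne_bot N).2 hN0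
    have h3 : 0 < N.index := Nat.pos_of_ne_zero Subgroup.index_ne_zero_of_finite
    nlinarith
  haveI := ih _ hqlt (G ⧸ N) rfl ((Subgroup.card_quotient_dvd_card N).trans hd) (by omega)
    (P.mapSurjective (QuotientGroup.mk'_surjective N))
  set M := ((P.mapSurjective (QuotientGroup.mk'_surjective N) : Sylow 19 (G ⧸ N)) : Subgroup (G ⧸ N)).comap
    (QuotientGroup.mk' N) with hM
  haveI hMn : M.Normal := Subgroup.Normal.comap inferInstance _
  have hMeq : M = (P : Subgroup G) ⊔ N := by
    rw [hM, Sylow.coe_mapSurjective, Subgroup.comap_map_eq, QuotientGroup.ker_mk']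
  by_cases hMt : M = ⊤
  swap
  · exact finish M hMn hMt (hMeq ▸ le_sup_left)
  -- `G = N P`
  have hPN : (P : Subgroup G) ⊔ N = ⊤ := hMeq ▸ hMt
  have hdvd : Nat.card G ∣ 19 * Nat.card N := by
    have h1 := N.card_mul_index
    have h2 : N.index ∣ 19 := by
      rw [Subgroup.index_eq_card, ← hP, ← Subgroup.card_top (G := G ⧸ N),
        ← show ((P : Subgroup G) ⊔ N).map (QuotientGroup.mk' N) = ⊤ by
          rw [hPN]; exact Subgroup.map_top_of_surjective _ (QuotientGroup.mk'_surjective N)]
      rw [Subgroup.map_sup, (Subgroup.map_eq_bot_iff N).2 (by rw [QuotientGroup.ker_mk']), sup_bot_eq]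
      exact Subgroup.card_map_dvd (H := (P : Subgroup G)) _
    rw [← h1, mul_comm 19]
    exact Nat.mul_dvd_mul_left _ h2
  have hN9240 : Nat.card N ∣ 9240 :=
    Nat.Coprime.dvd_of_dvd_mul_left ((Nat.Prime.coprime_iff_not_dvd hp.out).2 hN19).symm
      ((Subgroup.card_subgroup_dvd_card N).trans hd : Nat.card N ∣ 19 * 9240)
  -- the normalizer of `P` contains a Sylow subgroup of `N` for every prime
  have hall : ∀ q : ℕ, q.Prime → q ∣ Nat.card N → q ^ (Nat.card N).factorization q ∣
      Nat.card (Subgroup.normalizer ((P : Subgroup G) : Set G)) := by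
    intro q hq hqN
    haveI := Fact.mk hq
    obtain ⟨Q⟩ : Nonempty (Sylow q N) := inferInstance
    set QG := (Q : Subgroup N).map N.subtype with hQG
    have hQc : Nat.card QG = q ^ (Nat.card N).factorization q := by
      rw [hQG, Subgroup.card_map_of_injective N.subtype_injective, Q.card_eq_multiplicity]
    have hQsmall : Nat.card QG < 19 := by
      have hle1 := (Nat.ordProj_dvd (Nat.card N) q).trans hN9240
      have h2 : q ^ (Nat.card N).factorization q ∣ 2 ^ 3 * 3 * 5 * 7 * 11 := by norm_num; exact hle1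
      rw [hQc]
      by_contra hbig
      push Not at hbig
      obtain ⟨i, hi⟩ : ∃ i, i = (Nat.card N).factorization q := ⟨_, rfl⟩
      rw [← hi] at h2 hbig
      have hqd : q ∣ 9240 := hqN.trans hN9240
      have hq11 : q = 2 ∨ q = 3 ∨ q = 5 ∨ q = 7 ∨ q = 11 := by
        have h3 : q ∣ 2 ^ 3 * 3 * 5 * 7 * 11 := by norm_num; exact hqd
        rcases hq.dvd_mul.1 h3 with h3 | h3
        · rcases hq.dvd_mul.1 h3 with h3 | h3
          · rcases hq.dvd_mul.1 h3 with h3 | h3
            · rcases hq.dvd_mul.1 h3 with h3 | h3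
              · exact Or.inl ((Nat.prime_dvd_prime_iff_eq hq Nat.prime_two).1 (hq.dvd_of_dvd_pow h3))
              · exact Or.inr (Or.inl ((Nat.prime_dvd_prime_iff_eq hq Nat.prime_three).1 h3))
            · exact Or.inr (Or.inr (Or.inl ((Nat.prime_dvd_prime_iff_eq hq Nat.prime_five).1 h3)))
          · exact Or.inr (Or.inr (Or.inr (Or.inl ((Nat.prime_dvd_prime_iff_eq hq (by norm_num)).1 h3))))
        · exact Or.inr (Or.inr (Or.inr (Or.inr ((Nat.prime_dvd_prime_iff_eq hq (by norm_num)).1 h3))))
      have hb : ∀ b, b < 19 → b ≠ 0 → ¬ q ^ i ∣ b := fun b hb hb0 h =>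
        absurd (Nat.le_of_dvd (Nat.pos_of_ne_zero hb0) h) (by omega)
      rcases hq11 with rfl | rfl | rfl | rfl | rfl
      · exact hb 8 (by norm_num) (by norm_num) (Nat.Coprime.dvd_of_dvd_mul_right
          (Nat.Coprime.pow_left i (by norm_num)) (show 2 ^ i ∣ 8 * 1155 by norm_num at h2 ⊢; exact h2))
      · exact hb 3 (by norm_num) (by norm_num) (Nat.Coprime.dvd_of_dvd_mul_right
          (Nat.Coprime.pow_left i (by norm_num)) (show 3 ^ i ∣ 3 * 3080 by norm_num at h2 ⊢; exact h2))
      · exact hb 5 (by norm_num) (by norm_num) (Nat.Coprime.dvd_of_dvd_mul_right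
          (Nat.Coprime.pow_left i (by norm_num)) (show 5 ^ i ∣ 5 * 1848 by norm_num at h2 ⊢; exact h2))
      · exact hb 7 (by norm_num) (by norm_num) (Nat.Coprime.dvd_of_dvd_mul_right
          (Nat.Coprime.pow_left i (by norm_num)) (show 7 ^ i ∣ 7 * 1320 by norm_num at h2 ⊢; exact h2))
      · exact hb 11 (by norm_num) (by norm_num) (Nat.Coprime.dvd_of_dvd_mul_right
          (Nat.Coprime.pow_left i (by norm_num)) (show 11 ^ i ∣ 11 * 840 by norm_num at h2 ⊢; exact h2))
    have hfr : Subgroup.normalizer (QG : Set G) ⊔ N = ⊤ := Sylow.normalizer_sup_eq_top Q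
    -- a Sylow 19-subgroup normalizing `QG`
    have h19N : 19 ∣ Nat.card (Subgroup.normalizer (QG : Set G)) := by
      have h1 : 19 ∣ N.index := by
        have := N.card_mul_index
        exact ((Nat.Prime.dvd_mul hp.out).1 (this ▸ h19)).resolve_left hN19
      have h2 : N.relIndex (Subgroup.normalizer (QG : Set G)) = N.index := by
        rw [← Subgroup.relIndex_sup_right, hfr, Subgroup.relIndex_top_right]
      exact h1.trans (h2 ▸ Subgroup.index_dvd_card _)
    obtain ⟨u, hu⟩ := exists_prime_orderOf_dvd_card' 19 h19N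
    obtain ⟨R, hR⟩ := (IsPGroup.of_card (n := 1) (by rw [Nat.card_zpowers, pow_one, Subgroup.orderOf_coe, hu]) :
      IsPGroup 19 (Subgroup.zpowers (u : G))).exists_le_sylow
    have hReq : Subgroup.zpowers (u : G) = (R : Subgroup G) := Subgroup.eq_of_le_of_card_ge hR (by
        rw [Nat.card_zpowers, Subgroup.orderOf_coe, hu, R.card_eq_multiplicity, ← P.card_eq_multiplicity]
        exact le_of_eq hP)
    -- it centralizes `QG`, which has fewer than 19 elements
    have hcen : ∀ a ∈ QG, (u : G) * a * (u : G)⁻¹ = a := by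
      intro a ha
      let φ : Equiv.Perm QG := ((MulAut.conj (u : G)).toEquiv.subtypeEquiv fun b => Subgroup.mem_normalizer_iff.1 u.2 b)
      have hφ : φ ^ 19 = 1 := by
        have hpow : ∀ (k : ℕ) (b : QG), (((φ ^ k) b : QG) : G) = (u : G) ^ k * b * ((u : G) ^ k)⁻¹ := by
          intro k
          induction k with
          | zero => simp
          | succ k ihk =>
            intro b
            rw [pow_succ', Equiv.Perm.mul_apply]
            show (u : G) * _ * (u : G)⁻¹ = _
            rw [ihk b, pow_succ']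
            group
        ext b
        rw [hpow, show (u : G) ^ 19 = 1 by rw [← hu, ← Subgroup.orderOf_coe, pow_orderOf_eq_one]]
        simp
      have hφ1 : φ = 1 := by
        rw [← orderOf_eq_one_iff]
        have h1 : orderOf φ ∣ 19 := orderOf_dvd_of_pow_eq_one hφ
        refine ((Nat.dvd_prime hp.out).1 h1).resolve_right fun e => ?_
        have h2 := orderOf_dvd_natCard φ
        rw [e, Nat.card_perm, Nat.Prime.dvd_factorial hp.out] at h2
        omega
      have := congrArg Subtype.val (Equiv.Perm.congr_fun hφ1 ⟨a, ha⟩)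
      exact this
    have hle : QG ≤ Subgroup.normalizer ((R : Subgroup G) : Set G) := by
      intro a ha
      apply Subgroup.centralizer_le_normalizer
      rw [← hReq, Subgroup.mem_centralizer_iff]
      intro b hb
      obtain ⟨i, rfl⟩ := Subgroup.mem_zpowers_iff.1 hb
      refine (Commute.zpow_left ?_ i).eq
      exact mul_inv_eq_iff_eq_mul.1 (hcen a ha)
    rw [← hQc]
    refine (Subgroup.card_dvd_of_le hle).trans (dvd_of_eq ?_)
    have e1 := (Subgroup.normalizer ((R : Subgroup G) : Set G)).card_mul_index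
    have e2 := (Subgroup.normalizer ((P : Subgroup G) : Set G)).card_mul_index
    have e3 : (Subgroup.normalizer ((R : Subgroup G) : Set G)).index =
        (Subgroup.normalizer ((P : Subgroup G) : Set G)).index :=
      (Sylow.card_eq_index_normalizer R).symm.trans (Sylow.card_eq_index_normalizer P)
    rw [e3, ← e2] at e1
    exact Nat.eq_of_mul_eq_mul_right (Nat.pos_of_ne_zero Subgroup.index_ne_zero_of_finite) e1
  have hN' : Nat.card N ∣ Nat.card (Subgroup.normalizer ((P : Subgroup G) : Set G)) := by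
    rw [← Nat.factorization_le_iff_dvd Nat.card_pos.ne' Nat.card_pos.ne', Finsupp.le_iff]
    intro q hq
    rw [Nat.support_factorization, Nat.mem_primeFactors] at hq
    exact (hq.1.pow_dvd_iff_le_factorization Nat.card_pos.ne').1 (hall q hq.1 hq.2.1)
  have hfin : Nat.card G ∣ Nat.card (Subgroup.normalizer ((P : Subgroup G) : Set G)) := by
    refine hdvd.trans (Nat.Coprime.mul_dvd_of_dvd_of_dvd ((Nat.Prime.coprime_iff_not_dvd hp.out).2 hN19) ?_ hN')
    exact hP.symm.dvd.trans (Subgroup.card_dvd_of_le Subgroup.le_normalizer)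
  exact Subgroup.normalizer_eq_top_iff.1 (Subgroup.eq_top_of_le_card _ (Nat.le_of_dvd Nat.card_pos hfin))

/-- In a group of order a proper divisor of 175560 the Sylow 19-subgroup is normal. -/
theorem sylow_nineteen_normal [Fact (Nat.Prime 19)] : ∀ (n : ℕ) (G : Type u) [Group G] [Finite G],
    Nat.card G = n → n ∣ 175560 → n < 175560 → ∀ P : Sylow 19 G, (P : Subgroup G).Normal := by
  intro n
  induction n using Nat.strong_induction_on with
  | _ n ih =>
  intro G _ _ hn hd hlt P
  exact step n G hn hd (Or.inl hlt) ih P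

end Cfsg.Agent.Block.SmallOrd
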