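import Mathlib
import Cfsg.Agent.Lib.Block.SmallOrd.Kill

/-!
Certificates for the orders between 1093 and 3640.
-/

set_option autoImplicit false

namespace Cfsg.Agent.Block.SmallOrd

def midCerts0 : List (ℕ × Cert) := [
  (1104, .large 23), (1107, .two 3 3 41 1), (1116, .large 31), (1120, .syl 7 1), (1125, .two 3 2 5 3),
  (1128, .large 47), (1136, .two 2 4 71 1), (1140, .large 19), (1152, .two 2 7 3 2), (1161, .two 3 3 43 1),
  (1164, .large 97), (1168, .two 2 4 73 1), (1176, .syl 7 2), (1184, .two 2 5 37 1), (1188, .syl 11 1),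
  (1200, .deg 3), (1212, .large 101), (1215, .two 3 5 5 1), (1216, .two 2 6 19 1), (1224, .large 17),
  (1232, .deg 11), (1236, .large 103), (1248, .syl 13 1), (1264, .two 2 4 79 1), (1269, .two 3 3 47 1),
  (1272, .large 53), (1280, .two 2 8 5 1), (1284, .large 107), (1288, .large 23), (1296, .two 2 4 3 4),
  (1308, .large 109), (1312, .two 2 5 41 1), (1320, .syl 11 1), (1323, .two 3 3 7 2), (1328, .two 2 4 83 1),
  (1331, .two 11 3 3 0), (1332, .large 37), (1356, .large 113), (1360, .large 17), (1368, .large 19),
  (1375, .two 5 3 11 1), (1376, .two 2 5 43 1), (1377, .two 3 4 17 1), (1380, .large 23), (1392, .large 29),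
  (1400, .deg 7), (1408, .two 2 7 11 1), (1416, .large 59), (1424, .two 2 4 89 1), (1428, .large 17),
  (1431, .two 3 3 53 1), (1440, .deg 5), (1452, .syl 11 2), (1456, .syl 13 1), (1464, .large 61),
  (1472, .two 2 6 23 1), (1476, .large 41), (1485, .deg 11), (1488, .large 31), (1500, .syl 5 3)]

theorem midCerts0_ok : (midCerts0.all fun x => check x.1 x.2) = true := by decide +kernel

def midCerts1 : List (ℕ × Cert) := [
  (1504, .two 2 5 47 1), (1520, .large 19), (1524, .large 127), (1536, .two 2 9 3 1), (1539, .two 3 4 19 1),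
  (1548, .large 43), (1552, .two 2 4 97 1), (1560, .deg 13), (1568, .two 2 5 7 2), (1572, .large 131),
  (1584, .deg 11), (1593, .two 3 3 59 1), (1596, .large 19), (1600, .two 2 6 5 2), (1608, .large 67),
  (1616, .two 2 4 101 1), (1624, .large 29), (1625, .two 5 3 13 1), (1632, .large 17), (1644, .large 137),
  (1647, .two 3 3 61 1), (1648, .two 2 4 103 1), (1656, .large 23), (1664, .two 2 7 13 1), (1668, .large 139),
  (1692, .large 47), (1696, .two 2 5 53 1), (1701, .two 3 5 7 1), (1704, .large 71), (1712, .two 2 4 107 1),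
  (1715, .two 5 1 7 3), (1716, .deg 3), (1728, .two 2 6 3 3), (1736, .large 31), (1740, .large 29),
  (1744, .two 2 4 109 1), (1752, .large 73), (1755, .deg 13), (1760, .syl 11 1), (1776, .large 37),
  (1788, .large 149), (1792, .two 2 8 7 1), (1808, .two 2 4 113 1), (1809, .two 3 3 67 1), (1812, .large 151),
  (1824, .large 19), (1836, .large 17), (1840, .large 23), (1848, .deg 11), (1856, .two 2 6 29 1),
  (1860, .large 31), (1863, .two 3 4 23 1), (1872, .deg 13), (1875, .two 3 1 5 4), (1884, .large 157),
  (1888, .two 2 5 59 1), (1896, .large 79), (1904, .large 17), (1908, .large 53), (1917, .two 3 3 71 1)]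

theorem midCerts1_ok : (midCerts1.all fun x => check x.1 x.2) = true := by decide +kernel

def midCerts2 : List (ℕ × Cert) := [
  (1920, .deg 5), (1932, .large 23), (1936, .two 2 4 11 2), (1944, .two 2 3 3 5), (1952, .two 2 5 61 1),
  (1956, .large 163), (1960, .syl 7 2), (1968, .large 41), (1971, .two 3 3 73 1), (1980, .deg 11),
  (1984, .two 2 6 31 1), (1992, .large 83), (2000, .two 2 4 5 3), (2004, .large 167), (2016, .deg 7),
  (2025, .two 3 4 5 2), (2028, .syl 13 2), (2032, .two 2 4 127 1), (2040, .large 17), (2048, .two 2 11 3 0),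
  (2052, .large 19), (2064, .large 43), (2072, .large 37), (2076, .large 173), (2079, .syl 11 1),
  (2080, .deg 13), (2088, .large 29), (2096, .two 2 4 131 1), (2100, .deg 3), (2112, .syl 11 1),
  (2124, .large 59), (2125, .two 5 3 17 1), (2128, .large 19), (2133, .two 3 3 79 1), (2136, .large 89),
  (2144, .two 2 5 67 1), (2148, .large 179), (2172, .large 181), (2176, .two 2 7 17 1), (2184, .syl 13 1),
  (2187, .two 3 7 5 0), (2192, .two 2 4 137 1), (2196, .large 61), (2197, .two 13 3 3 0), (2208, .large 23),
  (2220, .large 37), (2224, .two 2 4 139 1), (2232, .large 31), (2240, .deg 7), (2241, .two 3 3 83 1),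
  (2244, .large 17), (2256, .large 47), (2268, .deg 7), (2272, .two 2 5 71 1), (2280, .large 19),
  (2288, .syl 13 1), (2292, .large 191), (2295, .large 17), (2296, .large 41), (2304, .two 2 8 3 2)]

theorem midCerts2_ok : (midCerts2.all fun x => check x.1 x.2) = true := by decide +kernel

def midCerts3 : List (ℕ × Cert) := [
  (2316, .large 193), (2320, .large 29), (2328, .large 97), (2336, .two 2 5 73 1), (2340, .syl 13 1),
  (2349, .two 3 4 29 1), (2352, .syl 7 2), (2364, .large 197), (2368, .two 2 6 37 1), (2375, .two 5 3 19 1),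
  (2376, .syl 11 1), (2384, .two 2 4 149 1), (2388, .large 199), (2401, .two 7 4 3 0), (2403, .two 3 3 89 1),
  (2408, .large 43), (2412, .large 67), (2416, .two 2 4 151 1), (2424, .large 101), (2432, .two 2 7 19 1),
  (2436, .large 29), (2457, .deg 13), (2460, .large 41), (2464, .deg 11), (2472, .large 103),
  (2480, .large 31), (2484, .large 23), (2496, .syl 13 1), (2508, .large 19), (2511, .two 3 4 31 1),
  (2512, .two 2 4 157 1), (2528, .two 2 5 79 1), (2532, .large 211), (2544, .large 53), (2556, .large 71),
  (2560, .two 2 9 5 1), (2565, .large 19), (2568, .large 107), (2576, .large 23), (2580, .large 43),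
  (2592, .two 2 5 3 4), (2604, .large 31), (2608, .two 2 4 163 1), (2616, .large 109), (2619, .two 3 3 97 1),
  (2624, .two 2 6 41 1), (2625, .deg 7), (2628, .large 73), (2632, .large 47), (2640, .syl 11 1),
  (2652, .syl 13 1), (2656, .two 2 5 83 1), (2664, .large 37), (2672, .two 2 4 167 1), (2673, .two 3 5 11 1),
  (2676, .large 223), (2688, .deg 7), (2704, .two 2 4 13 2), (2712, .large 113), (2720, .syl 17 1)]

theorem midCerts3_ok : (midCerts3.all fun x => check x.1 x.2) = true := by decide +kernel

def midCerts4 : List (ℕ × Cert) := [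
  (2724, .large 227), (2727, .two 3 3 101 1), (2736, .large 19), (2744, .two 2 3 7 3), (2748, .large 229),
  (2752, .two 2 6 43 1), (2760, .large 23), (2768, .two 2 4 173 1), (2772, .syl 11 1), (2781, .two 3 3 103 1),
  (2784, .large 29), (2796, .large 233), (2800, .deg 7), (2808, .deg 13), (2816, .two 2 8 11 1),
  (2820, .large 47), (2832, .large 59), (2835, .syl 3 4), (2844, .large 79), (2848, .two 2 5 89 1),
  (2856, .syl 17 1), (2864, .two 2 4 179 1), (2868, .large 239), (2875, .two 5 3 23 1), (2880, .deg 5),
  (2889, .two 3 3 107 1), (2892, .large 241), (2896, .two 2 4 181 1), (2904, .syl 11 2), (2912, .syl 13 1),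
  (2916, .two 2 2 3 6), (2928, .large 61), (2940, .deg 5), (2943, .two 3 3 109 1), (2944, .two 2 7 23 1),
  (2952, .large 41), (2960, .large 37), (2964, .large 19), (2968, .large 53), (2976, .large 31),
  (2988, .large 83), (2992, .syl 17 1), (2997, .two 3 4 37 1), (3000, .syl 5 3), (3008, .two 2 6 47 1),
  (3012, .large 251), (3024, .deg 7), (3036, .large 23), (3040, .large 19), (3048, .large 127),
  (3051, .two 3 3 113 1), (3056, .two 2 4 191 1), (3060, .syl 17 1), (3072, .two 2 10 3 1), (3080, .deg 11),
  (3084, .large 257), (3087, .two 3 2 7 3), (3088, .two 2 4 193 1), (3096, .large 43), (3104, .two 2 5 97 1)]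

theorem midCerts4_ok : (midCerts4.all fun x => check x.1 x.2) = true := by decide +kernel

def midCerts5 : List (ℕ × Cert) := [
  (3105, .large 23), (3108, .large 37), (3120, .deg 13), (3125, .two 5 5 3 0), (3132, .large 29),
  (3136, .two 2 6 7 2), (3144, .large 131), (3152, .two 2 4 197 1), (3156, .large 263), (3159, .two 3 5 13 1),
  (3168, .deg 11), (3180, .large 53), (3184, .two 2 4 199 1), (3192, .large 19), (3200, .two 2 7 5 2),
  (3204, .large 89), (3213, .syl 17 1), (3216, .large 67), (3228, .large 269), (3232, .two 2 5 101 1),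
  (3240, .deg 5), (3248, .large 29), (3252, .large 271), (3264, .syl 17 1), (3267, .two 3 3 11 2),
  (3276, .syl 13 1), (3280, .large 41), (3288, .large 137), (3296, .two 2 5 103 1), (3300, .deg 11),
  (3304, .large 59), (3312, .large 23), (3321, .two 3 4 41 1), (3324, .large 277), (3328, .two 2 8 13 1),
  (3336, .large 139), (3344, .large 19), (3348, .large 31), (3372, .large 281), (3375, .two 3 3 5 3),
  (3376, .two 2 4 211 1), (3384, .large 47), (3392, .two 2 6 53 1), (3396, .large 283), (3408, .large 71),
  (3416, .large 61), (3424, .two 2 5 107 1), (3429, .two 3 3 127 1), (3432, .deg 13), (3440, .large 43),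
  (3444, .large 41), (3456, .two 2 7 3 3), (3468, .syl 17 2), (3472, .large 31), (3480, .large 29),
  (3483, .two 3 4 43 1), (3488, .two 2 5 109 1), (3492, .large 97), (3504, .large 73), (3516, .large 293)]

theorem midCerts5_ok : (midCerts5.all fun x => check x.1 x.2) = true := by decide +kernel

def midCerts6 : List (ℕ × Cert) := [
  (3520, .deg 11), (3536, .syl 13 1), (3537, .two 3 3 131 1), (3540, .large 59), (3552, .large 37),
  (3564, .syl 11 1), (3568, .two 2 4 223 1), (3576, .large 149), (3584, .two 2 9 7 1), (3588, .large 23),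
  (3591, .syl 19 1), (3612, .large 43), (3616, .two 2 5 113 1), (3624, .large 151), (3625, .two 5 3 29 1),
  (3632, .two 2 4 227 1), (3636, .large 101), (3640, .deg 13)]

theorem midCerts6_ok : (midCerts6.all fun x => check x.1 x.2) = true := by decide +kernel

/-- The orders between 1093 and 3640 left to separate arguments. -/
def midHard : List ℕ := [1260, 1344, 1404, 1512, 1620, 1680, 1764, 1800, 2160, 2400, 2448, 2520, 2700, 3360, 3420, 3528, 3600]

/-- The orders that can occur for a simple group by elementary congruences. -/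
def midCand (n : ℕ) : Bool := n % 12 == 0 || n % 16 == 0 || n % 56 == 0 || (n % 2 == 1 &&
  ([3, 5, 7, 11, 13].any fun p => n % (p ^ 3) == 0))

/-- All certificates. -/
def midCerts : List (List (ℕ × Cert)) := [midCerts0, midCerts1, midCerts2, midCerts3, midCerts4, midCerts5, midCerts6]

theorem midCerts_cover : ((List.range 2548).all fun i => !midCand (1093 + i) || midHard.contains (1093 + i) ||
    midCerts.any fun L => L.any fun x => x.1 == 1093 + i) = true := by decide +kernel

attribute [local irreducible] midCand midHard midCerts in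
/-- The orders between 1093 and 3640 with the congruence conditions: hard, or in a certified list. -/
theorem mid_cover {n : ℕ} (h1 : 1093 ≤ n) (h2 : n ≤ 3640) (hc : midCand n = true) :
    n ∈ midHard ∨ ∃ L : List (ℕ × Cert), (L.all fun x => check x.1 x.2) = true ∧
      (L.any fun x => x.1 == n) = true := by
  have hall := List.all_eq_true.1 midCerts_cover (n - 1093) (List.mem_range.2 (by omega))
  rw [show 1093 + (n - 1093) = n by omega, hc, Bool.not_true, Bool.false_or] at hall
  simp only [Bool.or_eq_true, List.contains_iff_mem] at hall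
  rcases hall with h | h
  · exact Or.inl h
  · obtain ⟨L, hL, hn⟩ := List.any_eq_true.1 h
    refine Or.inr ⟨L, ?_, hn⟩
    unfold midCerts at hL
    simp only [List.mem_cons, List.not_mem_nil, or_false] at hL
    rcases hL with rfl | rfl | rfl | rfl | rfl | rfl | rfl
    · exact midCerts0_ok
    · exact midCerts1_ok
    · exact midCerts2_ok
    · exact midCerts3_ok
    · exact midCerts4_ok
    · exact midCerts5_ok
    · exact midCerts6_ok

end Cfsg.Agent.Block.SmallOrd
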