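import Mathlib
import Cfsg.Agent.Lib.Block.SmallIndex
import Cfsg.Agent.Lib.Fus.SmallSimple

/-!
Elements centralizing an element of order `p` in small permutation representations.
-/

set_option autoImplicit false
set_option linter.style.haveILetI false

namespace Cfsg.Agent.Block.SmallOrd

universe u

variable {G : Type u} [Group G] [Finite G] [IsSimpleGroup G] {p : ℕ} [hp : Fact p.Prime]

/-- An element fixing all the Sylow subgroups is trivial, if there are several. -/
theorem eq_one_of_fix_sylow (h1 : Nat.card (Sylow p G) ≠ 1) {y : G} (hy : ∀ Q : Sylow p G, y • Q = Q) :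
    y = 1 := by
  rcases (inferInstance : (MulAction.toPermHom G (Sylow p G)).ker.Normal).eq_bot_or_eq_top with h | h
  · have : y ∈ (MulAction.toPermHom G (Sylow p G)).ker := by
      rw [MonoidHom.mem_ker]
      exact Equiv.ext fun Q => hy Q
    rw [h, Subgroup.mem_bot] at this
    exact this
  · exfalso
    refine h1 (Nat.card_eq_one_iff_unique.2 ⟨⟨fun Q R => ?_⟩, inferInstance⟩)
    obtain ⟨g, hg⟩ := MulAction.exists_smul_eq G Q R
    have : g ∈ (MulAction.toPermHom G (Sylow p G)).ker := h ▸ Subgroup.mem_top g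
    rw [MonoidHom.mem_ker] at this
    rw [← hg]
    exact (Equiv.ext_iff.1 this Q).symm

/-- With `2p + 1` Sylow subgroups of order `p` the centralizer of one has order at most `2p`. -/
theorem false_of_two_orbits (P : Sylow p G) {c : ℕ} (hP : Nat.card P = p)
    (hn : Nat.card (Sylow p G) = 2 * p + 1)
    (hC : Nat.card (Subgroup.centralizer ((P : Subgroup G) : Set G)) = p * c) (hpc : ¬ p ∣ c) (hc : 3 ≤ c) :
    False := by
  classical
  haveI := Fintype.ofFinite (Sylow p G)
  have hpp : p.Prime := hp.out
  set C := Subgroup.centralizer ((P : Subgroup G) : Set G) with hCdef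
  obtain ⟨⟨u, huP⟩, hu⟩ := exists_prime_orderOf_dvd_card' (G := (P : Subgroup G)) p
    (by rw [show Nat.card (P : Subgroup G) = p from hP])
  rw [Subgroup.orderOf_mk] at hu
  have hz : Subgroup.zpowers u = (P : Subgroup G) := Subgroup.eq_of_le_of_card_ge (Subgroup.zpowers_le.2 huP)
    (by rw [Nat.card_zpowers, hu]; exact le_of_eq hP)
  have hup : u ^ p = 1 := orderOf_dvd_iff_pow_eq_one.1 (dvd_of_eq hu)
  have hself : ∀ Q : Sylow p G, ∀ g ∈ (P : Subgroup G), g ≠ 1 → g • Q = Q → Q = P := by
    intro Q g hg hg1 hgQ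
    have hgz : Subgroup.zpowers g = (P : Subgroup G) := by
      refine Subgroup.eq_of_le_of_card_ge (Subgroup.zpowers_le.2 hg) ?_
      have h1 := Subgroup.orderOf_dvd_natCard _ hg
      rw [show Nat.card (P : Subgroup G) = p from hP] at h1
      rw [Nat.card_zpowers, ((Nat.dvd_prime hpp).1 h1).resolve_left fun h => hg1 (orderOf_eq_one_iff.1 h)]
      exact le_of_eq hP
    have hle : (P : Subgroup G) ≤ Subgroup.normalizer ((Q : Subgroup G) : Set G) := by
      rw [← hgz, Subgroup.zpowers_le]
      exact Sylow.smul_eq_iff_mem_normalizer.1 hgQ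
    refine Sylow.ext (P.3 Q.isPGroup' ?_)
    have h2 := P.isPGroup'.inf_normalizer_sylow Q
    exact (inf_eq_left.2 hle).ge.trans (h2.le.trans inf_le_right)
  have hpow : ∀ (Q : Sylow p G) (i : ℕ), Q ≠ P → u ^ i • Q = Q → p ∣ i := by
    intro Q i hQ hi
    by_contra hd
    refine hQ (hself Q (u ^ i) ((P : Subgroup G).pow_mem huP i) (fun h => hd ?_) hi)
    rw [← hu]
    exact orderOf_dvd_of_pow_eq_one h
  let O : Sylow p G → Finset (Sylow p G) := fun Q => (Finset.range p).image fun i => u ^ i • Q
  have hOcard : ∀ Q, Q ≠ P → (O Q).card = p := by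
    intro Q hQ
    rw [Finset.card_image_of_injOn, Finset.card_range]
    intro i hi j hj hij
    rw [Finset.coe_range, Set.mem_Iio] at hi hj
    simp only at hij
    by_contra hne
    rcases lt_or_gt_of_ne hne with h | h
    · have h2 := hpow Q (j - i) hQ (by
        have : u ^ i • (u ^ (j - i) • Q) = u ^ i • Q := by
          rw [smul_smul, ← pow_add, Nat.add_sub_cancel' h.le, ← hij]
        exact MulAction.injective (u ^ i) this)
      have := Nat.le_of_dvd (by omega) h2
      omega
    · have h2 := hpow Q (i - j) hQ (by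
        have : u ^ j • (u ^ (i - j) • Q) = u ^ j • Q := by
          rw [smul_smul, ← pow_add, Nat.add_sub_cancel' h.le, hij]
        exact MulAction.injective (u ^ j) this)
      have := Nat.le_of_dvd (by omega) h2
      omega
  have hPfix : ∀ g ∈ Subgroup.normalizer ((P : Subgroup G) : Set G), g • P = P := fun g hg =>
    Sylow.smul_eq_iff_mem_normalizer.2 hg
  -- a point moved by the centralizer
  obtain ⟨Q, hQ⟩ : ∃ Q : Sylow p G, Q ≠ P := by
    refine Fintype.exists_ne_of_one_lt_card ?_ P
    rw [← Nat.card_eq_fintype_card, hn]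
    have := hpp.two_le
    omega
  set K := MulAction.stabilizer C Q with hK
  have hsub : MulAction.orbit C Q ⊆ {P}ᶜ := by
    rintro _ ⟨g, rfl⟩ (h : g • Q = P)
    refine hQ ?_
    have h2 : (g : G) • P = P := hPfix g (Subgroup.centralizer_le_normalizer _ g.2)
    exact MulAction.injective (g : G) (h.trans h2.symm)
  have horb : (MulAction.orbit C Q).ncard ≤ 2 * p := by
    refine (Set.ncard_le_ncard hsub (Set.toFinite _)).trans ?_
    rw [Set.ncard_compl, Set.ncard_singleton, hn]
    omega
  have hmul := K.card_mul_index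
  rw [hC, MulAction.index_stabilizer] at hmul
  have hK1 : 1 < Nat.card K := by
    by_contra h
    have h1 : Nat.card K = 1 := le_antisymm (by omega) Nat.card_pos
    rw [h1, one_mul] at hmul
    rw [hmul] at horb
    have := hpp.two_le
    nlinarith
  obtain ⟨⟨⟨y, hyC⟩, hyQ⟩, hy1⟩ : ∃ y : K, y ≠ 1 := by
    rw [Finite.one_lt_card_iff_nontrivial] at hK1
    exact exists_ne 1
  have hyQ' : y • Q = Q := hyQ
  have hyu : Commute y u := (Subgroup.mem_centralizer_iff.1 hyC u huP).symm
  -- its order is prime to `p`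
  have hyp : ¬ p ∣ orderOf y := by
    intro hd
    have hv : orderOf (y ^ (orderOf y / p)) = p := by
      rw [orderOf_pow' _ (Nat.div_ne_zero_iff.2 ⟨hpp.ne_zero, Nat.le_of_dvd (orderOf_pos y) hd⟩),
        Nat.gcd_eq_right (Nat.div_dvd_of_dvd hd), Nat.div_div_self hd (orderOf_pos y).ne']
    set v := y ^ (orderOf y / p)
    have hvC : v ∈ C := pow_mem hyC _
    have hvQ : v • Q = Q := (Subgroup.pow_mem (MulAction.stabilizer G Q) hyQ' _ :)
    refine hQ (hself Q v ?_ (fun h => by rw [h, orderOf_one] at hv; exact hpp.one_lt.ne hv) hvQ)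
    have hle : (P : Subgroup G) ≤ C := by
      intro a ha
      refine Subgroup.mem_centralizer_iff.2 fun b hb => ?_
      rw [SetLike.mem_coe, ← hz] at hb
      rw [← hz] at ha
      obtain ⟨i, rfl⟩ := Subgroup.mem_zpowers_iff.1 ha
      obtain ⟨j, rfl⟩ := Subgroup.mem_zpowers_iff.1 hb
      rw [← zpow_add, ← zpow_add, add_comm]
    haveI : ((P : Subgroup G).subgroupOf C).Normal := ⟨fun a ha g => by
      have h1 : (g : G) * (a : G) * (g : G)⁻¹ = (a : G) := by
        rw [← Subgroup.mem_centralizer_iff.1 g.2 (a : G) ha]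
        group
      show (g : G) * (a : G) * (g : G)⁻¹ ∈ (P : Subgroup G)
      rw [h1]; exact ha⟩
    have hsyl : Nat.card (Subgroup.zpowers (⟨v, hvC⟩ : C)) = p := by
      rw [Nat.card_zpowers, ← Subgroup.orderOf_coe]; exact hv
    have h3 : (⟨v, hvC⟩ : C) ∈ (P : Subgroup G).subgroupOf C := by
      have hidx : ¬ p ∣ ((P : Subgroup G).subgroupOf C).index := by
        have h4 := ((P : Subgroup G).subgroupOf C).card_mul_index
        rw [Nat.card_congr (Subgroup.subgroupOfEquivOfLe hle).toEquiv,
          show Nat.card (P : Subgroup G) = p from hP, hC] at h4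
        rwa [Nat.eq_of_mul_eq_mul_left hpp.pos h4]
      by_contra hn'
      refine hidx ?_
      rw [Subgroup.index_eq_card]
      have h5 : orderOf (QuotientGroup.mk' ((P : Subgroup G).subgroupOf C) ⟨v, hvC⟩) = p := by
        refine orderOf_eq_prime ?_ fun h => hn' ((QuotientGroup.eq_one_iff _).1 h)
        rw [← map_pow, show (⟨v, hvC⟩ : C) ^ p = 1 from Subtype.ext (by
          show v ^ p = 1
          rw [← hv, pow_orderOf_eq_one]), map_one]
      exact (dvd_of_eq h5.symm).trans (orderOf_dvd_natCard _)
    exact h3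
  refine hy1 (Subtype.ext (Subtype.ext (eq_one_of_fix_sylow (p := p) (by rw [hn]; have := hpp.two_le; omega) fun R => ?_)))
  have hyP : y • P = P := hPfix y (Subgroup.centralizer_le_normalizer _ hyC)
  have hyO : ∀ S ∈ O Q, y • S = S := by
    intro S hS
    obtain ⟨i, -, rfl⟩ := Finset.mem_image.1 hS
    rw [smul_smul, (hyu.pow_right i).eq, ← smul_smul, hyQ']
  by_cases hR : R ∈ insert P (O Q)
  · rcases Finset.mem_insert.1 hR with rfl | h
    · exact hyP
    · exact hyO R h
  set D : Finset (Sylow p G) := Finset.univ \ insert P (O Q) with hD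
  have hyD : y • R ∈ D := by
    refine Finset.mem_sdiff.2 ⟨Finset.mem_univ _, fun h => hR ?_⟩
    have h2 : y • (y • R) = y • R := by
      rcases Finset.mem_insert.1 h with e | e
      · rw [e]; exact hyP
      · exact hyO _ e
    rw [← MulAction.injective y h2]
    exact h
  have hRP : R ≠ P := fun e => hR (e ▸ Finset.mem_insert_self _ _)
  have hOR : O R = D := by
    refine Finset.eq_of_subset_of_card_le (fun S hS => ?_) ?_
    · obtain ⟨i, -, rfl⟩ := Finset.mem_image.1 hS
      refine Finset.mem_sdiff.2 ⟨Finset.mem_univ _, fun h => hR ?_⟩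
      rcases Finset.mem_insert.1 h with e | e
      · have : u ^ i • P = P := hPfix _ (Subgroup.le_normalizer ((P : Subgroup G).pow_mem huP i))
        rw [MulAction.injective (u ^ i) (e.trans this.symm)]
        exact Finset.mem_insert_self _ _
      · obtain ⟨j, -, hj⟩ := Finset.mem_image.1 e
        refine Finset.mem_insert_of_mem (Finset.mem_image.2 ⟨(j + i * (p - 1)) % p, Finset.mem_range.2
          (Nat.mod_lt _ hpp.pos), ?_⟩)
        refine MulAction.injective (u ^ i) ?_
        show u ^ i • u ^ ((j + i * (p - 1)) % p) • Q = u ^ i • R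
        have hip : i + i * (p - 1) = i * p := by
          have hp1 := hpp.one_le
          obtain ⟨q, hq⟩ : ∃ q, p = q + 1 := ⟨p - 1, by omega⟩
          rw [hq, Nat.add_sub_cancel]; ring
        rw [show u ^ ((j + i * (p - 1)) % p) = u ^ (j + i * (p - 1)) by rw [← hu, pow_mod_orderOf],
          smul_smul, ← pow_add, ← hj,
          show i + (j + i * (p - 1)) = j + i * p by omega, pow_add, mul_comm i p, pow_mul, hup,
          one_pow, mul_one]
    · rw [hOcard R hRP, hD, Finset.card_sdiff_of_subset (Finset.subset_univ _), Finset.card_univ,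
        ← Nat.card_eq_fintype_card, hn, Finset.card_insert_of_notMem (fun h => by
          obtain ⟨i, -, hi⟩ := Finset.mem_image.1 h
          have : u ^ i • P = P := hPfix _ (Subgroup.le_normalizer ((P : Subgroup G).pow_mem huP i))
          exact hQ (MulAction.injective (u ^ i) (hi.trans this.symm))), hOcard Q hQ]
      omega
  rw [← hOR] at hyD
  obtain ⟨i, -, hi⟩ := Finset.mem_image.1 hyD
  have hk : ∀ k : ℕ, y ^ k • R = u ^ (i * k) • R := by
    intro k
    induction k with
    | zero => rw [pow_zero, mul_zero, pow_zero]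
    | succ k ih =>
      rw [pow_succ', mul_smul, ih, smul_smul, (hyu.pow_right (i * k)).eq, ← smul_smul, ← hi, smul_smul,
        ← pow_add]
      congr 2
  have h2 := hk (orderOf y)
  rw [pow_orderOf_eq_one, one_smul] at h2
  obtain ⟨q, hq⟩ := (hpp.dvd_mul.1 (hpow R _ hRP h2.symm)).resolve_right hyp
  rw [← hi, hq, pow_mul, hup, one_pow, one_smul]

/-- On 21 points an involution centralizing a fixed-point-free element of order 7 is an odd permutation. -/
theorem false_of_odd_swap (hna : ¬ IsMulCommutative G) (H : Subgroup G) (hH : H.index = 21) {u t : G}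
    (hu : orderOf u = 7) (h7 : ¬ 7 ∣ Nat.card H) (ht : orderOf t = 2) (hut : Commute u t) : False := by
  classical
  haveI : Fact (Nat.Prime 7) := ⟨by norm_num⟩
  haveI : Fintype (G ⧸ H) := Fintype.ofFinite _
  set f := MulAction.toPermHom G (G ⧸ H) with hf
  have hsign : Equiv.Perm.sign (f t) = 1 := by
    rcases (inferInstance : ((Equiv.Perm.sign).comp f).ker.Normal).eq_bot_or_eq_top with h | h
    · exfalso
      refine hna ⟨⟨fun a b => ?_⟩⟩
      exact (MonoidHom.ker_eq_bot_iff _).1 h (by rw [map_mul, map_mul, mul_comm])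
    · have : t ∈ ((Equiv.Perm.sign).comp f).ker := h ▸ Subgroup.mem_top t
      exact this
  have hft : f t ≠ 1 := by
    intro h
    rcases (inferInstance : f.ker.Normal).eq_bot_or_eq_top with h' | h'
    · have h1 : t = 1 := (Subgroup.eq_bot_iff_forall _).1 h' t h
      rw [h1, orderOf_one] at ht
      omega
    · have htop : H = ⊤ := by
        rw [eq_top_iff]
        intro g _
        have hg : f g = 1 := (h' ▸ Subgroup.mem_top g : g ∈ f.ker)
        have h1 : ((g : G) : G ⧸ H) = ((1 : G) : G ⧸ H) := by
          have := Equiv.ext_iff.1 hg ((1 : G) : G ⧸ H)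
          simpa [hf] using this
        simpa using QuotientGroup.eq.1 h1.symm
      rw [htop, Subgroup.index_top] at hH
      omega
  set σ := f t with hσ
  have hσ2 : σ ^ 2 = 1 := by rw [hσ, ← map_pow, ← ht, pow_orderOf_eq_one, map_one]
  -- the fixed points form orbits of length seven
  set U := Subgroup.zpowers u with hU
  let F := {x : G ⧸ H // t • x = x}
  letI : MulAction U F :=
    { smul := fun g x => ⟨(g : G) • x.1, by
        obtain ⟨i, hi⟩ := Subgroup.mem_zpowers_iff.1 g.2
        rw [← hi, smul_smul, ← (hut.zpow_left i).eq, ← smul_smul, x.2]⟩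
      one_smul := fun x => Subtype.ext (one_smul G x.1)
      mul_smul := fun g h x => Subtype.ext (mul_smul (g : G) (h : G) x.1) }
  have hpU : IsPGroup 7 U := IsPGroup.of_card (n := 1) (by rw [hU, Nat.card_zpowers, hu, pow_one])
  have hmod := hpU.card_modEq_card_fixedPoints F
  have hfix : Nat.card (MulAction.fixedPoints U F) = 0 := by
    rw [Nat.card_eq_zero]
    refine Or.inl ⟨fun x => h7 ?_⟩
    obtain ⟨g, hg⟩ := QuotientGroup.mk_surjective x.1.1
    have hx : u • x.1.1 = x.1.1 :=
      congrArg Subtype.val (x.2 (⟨u, Subgroup.mem_zpowers u⟩ : U))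
    rw [← hg] at hx
    have hmem : g⁻¹ * u * g ∈ H := by
      have h1 := QuotientGroup.eq.1 hx.symm
      simpa [mul_assoc] using h1
    have h2 := Subgroup.orderOf_dvd_natCard _ hmem
    rwa [show orderOf (g⁻¹ * u * g) = orderOf u by
      rw [← MulEquiv.orderOf_eq (MulAut.conj g⁻¹) u]; simp, hu] at h2
  rw [hfix, Nat.modEq_zero_iff_dvd] at hmod
  have hFc : Nat.card F + σ.support.card = 21 := by
    rw [Nat.card_eq_fintype_card, Fintype.card_subtype]
    have : σ.support = Finset.univ.filter fun x : G ⧸ H => ¬ t • x = x := by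
      ext x
      simp [hσ, hf]
    rw [this, Finset.card_filter_add_card_filter_not, Finset.card_univ, ← Nat.card_eq_fintype_card,
      ← Subgroup.index_eq_card, hH]
  obtain ⟨k, hk⟩ := Equiv.Perm.cycleType_prime_order (σ := σ) (by
    rw [orderOf_eq_prime hσ2 hft]; exact Nat.prime_two)
  rw [orderOf_eq_prime hσ2 hft] at hk
  have hsc : σ.support.card = 2 * (k + 1) := by
    rw [← Equiv.Perm.sum_cycleType, hk, Multiset.sum_replicate, smul_eq_mul]
    ring
  rw [Equiv.Perm.sign_of_cycleType, hk, Multiset.sum_replicate, Multiset.card_replicate, smul_eq_mul] at hsign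
  obtain ⟨q, hq⟩ := hmod
  have hk7 : k = 6 := by omega
  rw [hk7] at hsign
  norm_num at hsign

end Cfsg.Agent.Block.SmallOrd
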