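import Mathlib
import Cfsg.Agent.Lib.Block.OrderPrimeSelfFull

/-!
The class equation for a self-centralizing Sylow subgroup of order `p` with an automizer of order two, exactly.
-/

set_option autoImplicit false

namespace Cfsg.Agent.Block.OrdP

open scoped ComplexConjugate
open Cfsg Cfsg.Agent.Block Cfsg.Agent.Char

universe u

variable {G : Type u} [Group G] [Finite G] [IsSimpleGroup G] {p : ℕ} [Fact p.Prime] {M : Ideal AlgInt}

/-- For `e = 2` and a self-centralizing Sylow subgroup: the degrees, the value `a` at an involution and the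
order `c` of its centralizer satisfy the class equation. -/
theorem two_self_exact (hna : ¬ IsMulCommutative G) (hM : IsPModular p M) (hp3 : 3 < p) (P : Sylow p G)
    (hP : Nat.card P = p)
    (hC : Nat.card (Subgroup.centralizer ((P : Subgroup G) : Set G)) = p)
    (he : (Subgroup.centralizer ((P : Subgroup G) : Set G)).relIndex
      (Subgroup.normalizer ((P : Subgroup G) : Set G)) = 2) :
    ∃ (d d' c : ℕ) (s ε a : ℤ), d ∣ Nat.card G ∧ d' ∣ Nat.card G ∧ d * d < Nat.card G ∧ 2 ≤ d ∧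
      (s = 1 ∨ s = -1) ∧ (ε = 1 ∨ ε = -1) ∧ (d : ℤ) ≡ s [ZMOD p] ∧ ε * (d' : ℤ) = 1 + s * (d : ℤ) ∧
      (4 : ℤ) ∣ (d : ℤ) - a ∧
      0 ≤ (d : ℤ) + ((p : ℤ) - 1) * s + (p : ℤ) * a ∧
      0 ≤ (d : ℤ) + ((p : ℤ) - 1) * s - (p : ℤ) * a ∧
      2 ^ (Nat.card G).factorization 2 ∣ c ∧ c ∣ Nat.card G ∧
      (p : ℤ) * (c : ℤ) ^ 2 * (d : ℤ) * (ε * (d' : ℤ)) = (Nat.card G : ℤ) * s * (a - (d : ℤ)) ^ 2 := by
  classical
  have hp : p.Prime := Fact.out
  haveI := Fintype.ofFinite G
  obtain ⟨S, hSu⟩ := exists_self P hP (by omega) hC he dvd_rfl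
  obtain ⟨X, Y, hXY, hdisj, hX, hY, sX, ε, hdX, hε, hdY, hagree, hreg⟩ :=
    Cfsg.Agent.S4441.result p M hM (by omega) P hP 2 he
  set τ := trivialIrr G with hτ
  have hτd : charDegree (τ : G → ℂ) = 1 := charDeg_trivial
  have hτX : τ ∈ X := by
    have hτB : τ ∈ principalBlock M G := trivial_mem_principalBlock hM
    rw [hXY] at hτB
    refine hτB.resolve_right fun h => ?_
    have h1 := hdY τ h
    rw [hτd, Nat.cast_one, Int.modEq_iff_dvd] at h1
    rcases hε with rfl | rfl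
    · have := Int.le_of_dvd (by norm_num) h1
      omega
    · have := Int.le_of_dvd (by norm_num) (dvd_neg.2 h1)
      omega
  have hsτ : sX τ = 1 := by
    obtain ⟨h1, h2, -⟩ := hdX τ hτX
    refine h1.resolve_right fun h => ?_
    rw [hτd, h, Nat.cast_one, Int.modEq_iff_dvd] at h2
    have := Int.le_of_dvd (by norm_num) (dvd_neg.2 h2)
    omega
  obtain ⟨χ, hχ⟩ : ∃ χ, X.toFinset.erase τ = {χ} := Finset.card_eq_one.1 (by
    rw [Finset.card_erase_of_mem (Set.mem_toFinset.2 hτX), ← Set.ncard_eq_toFinset_card',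
      ← Nat.card_coe_set_eq, hX])
  have hχX : χ ∈ X := by
    have : χ ∈ X.toFinset.erase τ := hχ ▸ Finset.mem_singleton_self χ
    exact Set.mem_toFinset.1 (Finset.mem_of_mem_erase this)
  have hχτ : χ ≠ τ := Finset.ne_of_mem_erase (hχ ▸ Finset.mem_singleton_self χ :
    χ ∈ X.toFinset.erase τ)
  obtain ⟨hs, hd, hval⟩ := hdX χ hχX
  have hXsum : ∀ F : IrrCharacter G → ℂ, ∑ ξ ∈ X.toFinset, F ξ = F τ + F χ := fun F => by
    rw [← Finset.add_sum_erase _ _ (Set.mem_toFinset.2 hτX), hχ, Finset.sum_singleton]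
  obtain ⟨y, hy⟩ : Y.Nonempty := by
    refine Set.nonempty_of_ncard_ne_zero ?_
    rw [← Nat.card_coe_set_eq, hY]
    omega
  have hr1 : ¬ p ∣ orderOf (1 : G) := by rw [orderOf_one]; exact hp.not_dvd_one
  have hrel : ∀ g : G, ¬ p ∣ orderOf g →
      (ε : ℂ) * (y : G → ℂ) g = 1 + (sX χ : ℂ) * (χ : G → ℂ) g := fun g hg => by
    have h := hreg y hy g hg
    rw [finsum_mem_eq_toFinset_sum, hXsum, hsτ] at h
    rw [h]
    simp [hτ, trivialIrr]
  have hu1 : S.u ≠ 1 := S.u_ne
  have hχu : (χ : G → ℂ) S.u = (sX χ : ℂ) := by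
    have := hval S.u hSu hu1 1 (one_mem _) hr1
    rwa [mul_one] at this
  set d := charDegree (χ : G → ℂ) with hddef
  set d' := charDegree (y : G → ℂ) with hd'def
  have hdeg : (ε : ℂ) * (d' : ℂ) = 1 + (sX χ : ℂ) * (d : ℂ) := by
    rw [hd'def, hddef, ← charDeg_spec', ← charDeg_spec']; exact hrel 1 hr1
  have hd'0 : (d' : ℂ) ≠ 0 := Nat.cast_ne_zero.2 (charDeg_pos y).ne'
  have hd0 : (d : ℂ) ≠ 0 := Nat.cast_ne_zero.2 (charDeg_pos χ).ne'
  have hε2 : (ε : ℂ) * ε = 1 := by rcases hε with rfl | rfl <;> norm_num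
  have hs2 : (sX χ : ℂ) * sX χ = 1 := by rcases hs with h | h <;> simp [h]
  have hBsum : ∀ F : IrrCharacter G → ℂ, ∑ ξ ∈ Finset.univ.filter (fun ξ => ξ ∈ principalBlock M G),
      F ξ = F τ + F χ + ∑ ξ ∈ Y.toFinset, F ξ := fun F => by
    rw [← hXsum, ← Finset.sum_union (Set.disjoint_toFinset.2 hdisj)]
    exact Finset.sum_congr (by ext ξ; simp [hXY]) fun _ _ => rfl
  -- the sum over the exceptional characters at `u`
  have hS : ∑ ξ ∈ Y.toFinset, conj ((ξ : G → ℂ) S.u) = -(ε : ℂ) := by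
    have h0 := weak_orth hM (isPBlock_principalBlock (G := G) (M := M)) hr1
      (y := S.u) (by rw [S.hu])
    rw [finsum_mem_block, hBsum, hχu, map_intCast, Finset.sum_congr rfl (g := fun ξ : IrrCharacter G =>
      (d' : ℂ) * conj ((ξ : G → ℂ) S.u)) fun ξ hξ => by
        rw [hagree ξ (Set.mem_toFinset.1 hξ) y hy 1 hr1, hd'def, charDeg_spec'],
      ← Finset.mul_sum, charDeg_spec' χ, ← hddef] at h0
    simp only [hτ, trivialIrr, map_one, mul_one] at h0
    refine mul_left_cancel₀ hd'0 ?_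
    linear_combination h0 + hdeg
  have hformula : ∀ x : G, orderOf x = 2 →
      (p : ℂ) * (Nat.card {g : G // IsConj S.u (x * (g * x * g⁻¹))} : ℂ) * (d : ℂ) *
        ((ε : ℂ) * (d' : ℂ)) =
      (Nat.card G : ℂ) * (sX χ : ℂ) * ((χ : G → ℂ) x - (d : ℂ)) ^ 2 := by
    intro x hx
    have hxr : ¬ p ∣ orderOf x := by
      rw [hx]; exact fun h => by have := Nat.le_of_dvd two_pos h; omega
    rw [S.formula x, ← Finset.sum_filter_add_sum_filter_not Finset.univ
      (fun ξ => ξ ∈ principalBlock M G)]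
    rw [Finset.sum_eq_zero (s := Finset.univ.filter fun ξ => ξ ∉ principalBlock M G) (fun ξ hξ => by
      rw [S.vanish hM ξ (Finset.mem_filter.1 hξ).2, map_zero, zero_mul, zero_mul, zero_div]),
      add_zero, hBsum, hχu, map_intCast, charDeg_spec' χ, ← hddef,
      Finset.sum_congr rfl (g := fun ξ : IrrCharacter G =>
        conj ((ξ : G → ℂ) S.u) * ((y : G → ℂ) x * (y : G → ℂ) x / (d' : ℂ))) fun ξ hξ => by
          rw [hagree ξ (Set.mem_toFinset.1 hξ) y hy x hxr,
            hagree ξ (Set.mem_toFinset.1 hξ) y hy 1 hr1, hd'def, charDeg_spec']; ring,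
      ← Finset.sum_mul, hS]
    simp only [hτ, trivialIrr, map_one, mul_one, div_one]
    have hyx : (ε : ℂ) * (y : G → ℂ) x = 1 + (sX χ : ℂ) * (χ : G → ℂ) x := hrel x hxr
    generalize (χ : G → ℂ) x = a at hyx ⊢
    generalize (y : G → ℂ) x = b at hyx ⊢
    field_simp
    linear_combination ((d : ℂ) + (sX χ : ℂ) * a ^ 2) * hdeg -
      ((d : ℂ) * ((ε : ℂ) * b + 1 + (sX χ : ℂ) * a)) * hyx +
      (a ^ 2 * (d : ℂ) - (d : ℂ) * a ^ 2) * hs2
  have hd'pos := charDeg_pos y
  have hnc : ∀ z : G, orderOf z = 2 → IsConj S.t z := by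
    intro z hz
    by_contra hnc
    have h := hformula z hz
    rw [show Nat.card {g : G // IsConj S.u (z * (g * z * g⁻¹))} = 0 by
      rw [Nat.card_eq_zero]; exact Or.inl ⟨fun g => S.count_zero hz (by omega) hnc g.1 g.2⟩] at h
    simp only [Nat.cast_zero, mul_zero, zero_mul] at h
    have hG : (Nat.card G : ℂ) ≠ 0 := Nat.cast_ne_zero.2 Nat.card_pos.ne'
    have hs0 : (sX χ : ℂ) ≠ 0 := left_ne_zero_of_mul_eq_one hs2
    have h2 := sub_eq_zero.1 ((pow_eq_zero_iff two_ne_zero).1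
      ((mul_eq_zero.1 h.symm).resolve_left (mul_ne_zero hG hs0)))
    have h3 := eq_one_of_value hχτ (g := z) (by rw [h2, charDeg_spec'])
    rw [h3, orderOf_one] at hz
    omega
  set c := Nat.card (Subgroup.centralizer ({S.t} : Set G)) with hc
  obtain ⟨a, ha, ha4⟩ := involution_value hna χ (x := S.t) (by rw [← S.ht]; exact pow_orderOf_eq_one _)
  obtain ⟨hb1, hb2⟩ := inverted_bound S (by omega) χ (s := sX χ) (fun i hi => by
    have := hval (S.u ^ i) ((P : Subgroup G).zpow_mem hSu i) hi 1 (one_mem _) hr1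
    rwa [mul_one] at this) ha
  refine ⟨d, d', c, sX χ, ε, a, charDeg_dvd χ, charDeg_dvd y, ?_, two_le_deg hna hχτ, hs, hε, hd, ?_,
    ha4, hb1, hb2, ?_, Subgroup.card_subgroup_dvd_card _, ?_⟩
  · have h := normSq_column {τ, χ} (1 : G)
    rw [Finset.sum_pair (Ne.symm hχτ), centralizer_one_eq_top, Subgroup.card_top, normSq_one,
      normSq_one, hτd, ← hddef] at h
    have h' : 1 ^ 2 + d ^ 2 ≤ Nat.card G := by exact_mod_cast h
    rw [← sq]
    omega
  · exact_mod_cast hdeg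
  ·
    obtain ⟨T⟩ : Nonempty (Sylow 2 G) := inferInstance
    haveI : Fact (Nat.Prime 2) := ⟨Nat.prime_two⟩
    by_cases hT : (T : Subgroup G) = ⊥
    · have := T.card_eq_multiplicity
      rw [hT, Subgroup.card_bot] at this
      rw [← this]; exact one_dvd _
    haveI := (Subgroup.nontrivial_iff_ne_bot _).2 hT
    haveI := T.isPGroup'.center_nontrivial
    have h2z : 2 ∣ Nat.card (Subgroup.center (T : Subgroup G)) := by
      obtain ⟨n, hn⟩ := IsPGroup.iff_card.1 (T.isPGroup'.to_subgroup (Subgroup.center (T : Subgroup G)))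
      rw [hn]
      refine dvd_pow_self 2 fun h0 => ?_
      have := Finite.one_lt_card (α := Subgroup.center (T : Subgroup G))
      rw [hn, h0] at this
      omega
    obtain ⟨⟨⟨z, hzT⟩, hzc⟩, hz⟩ := exists_prime_orderOf_dvd_card' 2 h2z
    rw [Subgroup.orderOf_mk, Subgroup.orderOf_mk] at hz
    obtain ⟨h, hh⟩ := isConj_iff.1 (hnc z hz)
    have hle : (T : Subgroup G) ≤ Subgroup.centralizer ({z} : Set G) := fun x hx =>
      Subgroup.mem_centralizer_singleton_iff.2
        (congrArg Subtype.val (Subgroup.mem_center_iff.1 hzc ⟨x, hx⟩))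
    rw [← T.card_eq_multiplicity, hc]
    refine (Subgroup.card_dvd_of_le hle).trans (dvd_of_eq ?_)
    subst hh
    symm
    refine Nat.card_congr (Equiv.subtypeEquiv (MulAut.conj h).toEquiv fun g => ?_)
    simp only [Subgroup.mem_centralizer_singleton_iff, MulEquiv.toEquiv_eq_coe, MulEquiv.coe_toEquiv,
      MulAut.conj_apply]
    constructor
    · intro e
      calc h * g * h⁻¹ * (h * S.t * h⁻¹) = h * (g * S.t) * h⁻¹ := by group
        _ = h * S.t * h⁻¹ * (h * g * h⁻¹) := by rw [e]; group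
    · intro e
      have h2 := congrArg (fun w => h⁻¹ * w * h) e
      simpa [mul_assoc] using h2
  · have h := hformula S.t S.ht
    rw [S.count (by omega), ← hc, ha] at h
    push_cast at h
    exact_mod_cast h

end Cfsg.Agent.Block.OrdP
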