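import Mathlib
import Cfsg.Agent.Lib.Block.SmallOrd.CertsMid
import Cfsg.Agent.Lib.Block.SmallOrd.Cases
import Cfsg.Agent.Lib.Block.SmallOrd.SelfTwoExact
import Cfsg.Agent.Lib.Block.SmallOrd.Orbits
import Cfsg.Agent.Lib.Classical.DicksonSmallQ
import Cfsg.Agent.S4501

/-!
The orders of non-abelian simple groups between 1093 and 3640.
-/

set_option autoImplicit false
set_option linter.style.haveILetI false

namespace Cfsg.Agent.Block.SmallOrd

open Cfsg Cfsg.Agent.Block Cfsg.Agent.Char

universe u

/-- The configurations (Sylow number, automizer, centralizer index) not excluded by the degrees at `p`. -/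
def configTest (n p B : ℕ) (L : List (ℕ × ℕ × ℕ)) : Bool :=
  let m := n / p
  primeB p && decide (2 < p) && n % p == 0 && m % p != 0 &&
    (p * (p - 1) * (p + 1)) % (2 * (p * m)) != 0 && decide (n ≤ B * B) &&
    (List.range (m + 1)).all fun k => !(decide (1 < k) && m % (p * k + 1) == 0) ||
      (decide (p * k + 1 < 30) && (p * k + 1).factorial % (2 * n) != 0) ||
      (List.range p).all fun e => !(decide (1 < e) && (p - 1) % e == 0 && (m / (p * k + 1)) % e == 0) ||
        degTest n p B e (m / (p * k + 1) / e != 1) (fun _ => true) (fun _ => false) ||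
        L.contains (p * k + 1, e, m / (p * k + 1) / e)

variable {G : Type u} [Group G] [Finite G] [IsSimpleGroup G]

theorem configs (hna : ¬ IsMulCommutative G) {n p B : ℕ} [hp : Fact p.Prime] (h : Nat.card G = n)
    (L : List (ℕ × ℕ × ℕ)) (ht : configTest n p B L = true) (P : Sylow p G) :
    ∃ e c : ℕ, (Nat.card (Sylow p G), e, c) ∈ L ∧ Nat.card P = p ∧
      (Subgroup.centralizer ((P : Subgroup G) : Set G)).relIndex
        (Subgroup.normalizer ((P : Subgroup G) : Set G)) = e ∧ 1 < e ∧ e ∣ p - 1 ∧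
      Nat.card (Subgroup.centralizer ((P : Subgroup G) : Set G)) = p * c ∧ c ∣ n / p := by
  simp only [configTest, Bool.and_eq_true, decide_eq_true_iff, beq_iff_eq, bne_iff_ne, ne_eq,
    List.all_eq_true, List.mem_range, Bool.or_eq_true, Bool.not_eq_true'] at ht
  obtain ⟨⟨⟨⟨⟨⟨-, hp2⟩, hdiv⟩, hnp⟩, hfac⟩, hB⟩, hall⟩ := ht
  have hcard : Nat.card G = p * (n / p) := by rw [h, Nat.mul_div_cancel' (Nat.dvd_of_mod_eq_zero hdiv)]
  have hpm : ¬ p ∣ n / p := fun hd => hnp (Nat.mod_eq_zero_of_dvd hd)
  obtain ⟨e, k, c, hk1, hkm, he, he1, hep, hc, hprod⟩ :=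
    OrdP.exists_e' hna hcard hpm (by omega) (fun hd => hfac (Nat.mod_eq_zero_of_dvd hd)) P
  have hm0 : 0 < n / p := Nat.pos_of_ne_zero fun e => hpm (by rw [e]; exact dvd_zero p)
  have hle := Nat.le_of_dvd hm0 hkm
  have hkle : k ≤ n / p := le_trans (Nat.le_mul_of_pos_left k hp.out.pos) (by omega)
  have hp1 := hp.out.one_lt
  have hep' : e < p := lt_of_le_of_lt (Nat.le_of_dvd (by omega) hep) (by omega)
  have hce : n / p / (p * k + 1) = c * e := by
    conv_lhs => rw [← hprod]
    exact Nat.mul_div_cancel _ (by omega)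
  have hdivk : n / p / (p * k + 1) / e = c := by
    rw [hce, Nat.mul_div_cancel _ (by omega : 0 < e)]
  obtain ⟨k', -, hk', -, -, hmul', hfac'⟩ :=
    small_sylow_number hna P (a := 1) (m := n / p) (by rw [pow_one, hcard]) one_ne_zero
  have hCN := Subgroup.centralizer_le_normalizer ((P : Subgroup G) : Set G)
  have h1 : Nat.card (Subgroup.centralizer ((P : Subgroup G) : Set G)) * e =
      Nat.card (Subgroup.normalizer ((P : Subgroup G) : Set G)) := by
    rw [← he, Subgroup.relIndex, ← Nat.card_congr (Subgroup.subgroupOfEquivOfLe hCN).toEquiv,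
      Subgroup.card_mul_index]
  rw [hc] at h1
  rw [← h1, hcard, ← hprod] at hmul'
  have h2 : p * k' + 1 = p * k + 1 := by
    refine Nat.eq_of_mul_eq_mul_left (Nat.pos_of_ne_zero fun e0 => ?_)
      (hmul'.trans (by ring : p * (c * e * (p * k + 1)) = p * c * e * (p * k + 1)))
    rw [e0] at h1
    exact (Nat.card_pos (α := Subgroup.normalizer ((P : Subgroup G) : Set G))).ne h1
  have hcm : c ∣ n / p := ⟨e * (p * k + 1), by rw [← mul_assoc]; exact hprod.symm⟩
  refine ⟨e, c, ?_, OrdP.card_sylow_eq hcard hpm P, he, he1, hep, hc, hcm⟩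
  rw [hk', h2]
  rcases hall k (by omega) with (hh | hh) | hh
  · simp [hk1, Nat.mod_eq_zero_of_dvd hkm] at hh
  · rw [h2, h] at hfac'
    exact (hh.2 (Nat.mod_eq_zero_of_dvd hfac')).elim
  rcases hh e hep' with (hh' | hh') | hh'
  · simp [he1, Nat.mod_eq_zero_of_dvd hep, hce] at hh'
  · exact (deg_elim hna (c := c) h hpm (by omega) P (OrdP.card_sylow_eq hcard hpm P)
      hcm he he1 hep hc _ (fun _ _ => rfl) hB (by rwa [hdivk] at hh')).elim
  · simpa [hdivk] using hh'

/-- Orders of the form `4 p^a q^b` or `3 p^a q^b` with `a ≤ 2`. -/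
theorem ne_small_shape (hna : ¬ IsMulCommutative G) (p q a b : ℕ) (hp : p.Prime) (hq : q.Prime) (hpq : p ≠ q)
    (ha : a ≤ 2) (h : Nat.card G = 4 * p ^ a * q ^ b ∨ Nat.card G = 3 * p ^ a * q ^ b)
    (hbig : 168 < Nat.card G) : False := by
  have hna' : ∃ x y : G, x * y ≠ y * x := by
    by_contra hh
    push Not at hh
    exact hna ⟨⟨hh⟩⟩
  obtain ⟨h4, h3⟩ := S4501.result hna' p q a b hp hq hpq ha
  have h60 : Nat.card (alternatingGroup (Fin 5)) = 60 := by
    rw [nat_card_alternatingGroup, Nat.card_fin]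
    rfl
  rcases h with h | h
  · obtain ⟨e⟩ := h4 h
    rw [Nat.card_congr e.toEquiv, h60] at hbig
    omega
  · haveI : Fact (Nat.Prime 7) := ⟨by norm_num⟩
    rcases h3 h with he | he
    · obtain ⟨e⟩ := he
      rw [Nat.card_congr e.toEquiv, h60] at hbig
      omega
    · obtain ⟨e⟩ := he
      have h168 := Dickson.card_psl_odd (F := ZMod 7) (by rw [ZMod.card]; decide)
      rw [ZMod.card] at h168
      rw [Nat.card_congr e.toEquiv] at hbig
      omega

theorem ne_1260 (hna : ¬ IsMulCommutative G) : Nat.card G ≠ 1260 := by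
  intro h
  haveI : Fact (Nat.Prime 7) := ⟨by norm_num⟩
  obtain ⟨P⟩ : Nonempty (Sylow 7 G) := inferInstance
  obtain ⟨e, c, hL, hP, he, he1, hep, hC, -⟩ := configs hna (p := 7) (B := 420) h [(15, 3, 4)] (by decide +kernel) P
  simp only [List.mem_cons, List.not_mem_nil, or_false, Prod.mk.injEq] at hL
  obtain ⟨hn, rfl, rfl⟩ := hL
  exact false_of_two_orbits P hP (by rw [hn]) hC (by norm_num) (by norm_num)

theorem ne_1512 (hna : ¬ IsMulCommutative G) : Nat.card G ≠ 1512 := by
  classical
  intro h
  haveI : Fact (Nat.Prime 7) := ⟨by norm_num⟩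
  obtain ⟨P⟩ : Nonempty (Sylow 7 G) := inferInstance
  obtain ⟨e, c, hL, hP, he, he1, hep, hC, -⟩ := configs hna (p := 7) (B := 420) h [(36, 6, 1)] (by decide +kernel) P
  simp only [List.mem_cons, List.not_mem_nil, or_false, Prod.mk.injEq] at hL
  obtain ⟨-, rfl, rfl⟩ := hL
  obtain ⟨M, hM⟩ := exists_isPModular 7 (by norm_num)
  obtain ⟨Z, s, a, c', hZc, hZ, hsum, -, hsz, -, -⟩ :=
    OrdP.full_self hna hM (by norm_num) P hP (by rw [hC]) he
  rw [h] at hsz
  have hin : ∀ χ ∈ Z, ((s χ * (charDegree (χ : G → ℂ) : ℤ), charDegree (χ : G → ℂ) * charDegree (χ : G → ℂ), 0) : W) ∈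
      ([(8, 64, 0), (-27, 729, 0), (36, 1296, 0)] : List W) := by
    intro χ hχ
    obtain ⟨hd2, hdv, hlt, hs, hd, h4, hb1, hb2⟩ := hZ χ hχ
    rw [h] at hdv hlt
    rw [Int.ModEq] at hd
    push_cast at hb1 hb2
    have hd38 : charDegree (χ : G → ℂ) ≤ 38 := by nlinarith
    generalize charDegree (χ : G → ℂ) = d at hd2 hdv hlt hd h4 hb1 hb2 hd38 ⊢
    generalize a χ = A at h4 hb1 hb2
    rcases hs with e | e <;> rw [e] at hd hb1 hb2 ⊢ <;> interval_cases d <;> first
      | omega
      | (norm_num at hdv; done)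
      | decide
  have hf := search_sound (n := 1512) (fun v : W => decide (1512 < v.2.1) || v.1 != 0)
    (fun v hv => by simp [hv]) [(8, 64, 0), (-27, 729, 0), (36, 1296, 0)] 6 (1, 1, 0) (by decide +kernel) Z
    (fun χ => (s χ * (charDegree (χ : G → ℂ) : ℤ), charDegree (χ : G → ℂ) * charDegree (χ : G → ℂ), 0))
    (by omega) hin
  simp only [Prod.fst_add, Prod.snd_add, Prod.fst_sum, Prod.snd_sum, ← sq, Bool.or_eq_true,
    decide_eq_true_iff, bne_iff_ne, ne_eq] at hf
  omega

theorem ne_1680 (hna : ¬ IsMulCommutative G) : Nat.card G ≠ 1680 := by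
  intro h
  haveI : Fact (Nat.Prime 7) := ⟨by norm_num⟩
  haveI : Fact (Nat.Prime 5) := ⟨by norm_num⟩
  obtain ⟨P⟩ : Nonempty (Sylow 7 G) := inferInstance
  obtain ⟨e, c, hL, hP, he, he1, hep, hC, -⟩ := configs hna (p := 7) (B := 420) h [(15, 2, 8), (120, 2, 1)]
    (by decide +kernel) P
  simp only [List.mem_cons, List.not_mem_nil, or_false, Prod.mk.injEq] at hL
  rcases hL with ⟨hn, rfl, rfl⟩ | ⟨-, rfl, rfl⟩
  · exact false_of_two_orbits P hP (by rw [hn]) hC (by norm_num) (by norm_num)
  exact false_of_degKill hna (p := 5) (B := 420) h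
    (fun d => d % 7 == 0 || (d == 15 || d == 16 || d == 5 || d == 6))
    (self_degrees hna (p := 7) (m := 240) h (by norm_num) (by norm_num) P hP he he1 hep hC (fun _ => true) (B := 420)
      (fun d => d == 15 || d == 16 || d == 5 || d == 6) (fun _ _ => rfl) (by norm_num) (by decide +kernel))
    (by decide +kernel)

theorem ne_2160 (hna : ¬ IsMulCommutative G) : Nat.card G ≠ 2160 := by
  intro h
  haveI : Fact (Nat.Prime 5) := ⟨by norm_num⟩
  obtain ⟨P⟩ : Nonempty (Sylow 5 G) := inferInstance
  obtain ⟨e, c, hL, hP, he, he1, hep, hC, -⟩ := configs hna (p := 5) (B := 420) h [(216, 2, 1)] (by decide +kernel) P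
  simp only [List.mem_cons, List.not_mem_nil, or_false, Prod.mk.injEq] at hL
  obtain ⟨-, rfl, rfl⟩ := hL
  obtain ⟨M, hM⟩ := exists_isPModular 5 (by norm_num)
  obtain ⟨d, d', c', s, ε, a, hd, hd', hlt, hd2, hs, hε, hmod, hdd, h4, hb1, hb2, hc2, hc', heq⟩ :=
    OrdP.two_self_exact hna hM (by norm_num) P hP (by rw [hC]) he
  rw [h] at hd hd' hlt hc2 hc' heq
  have h2160 : (2160 : ℕ).factorization 2 = 4 := by
    rw [show (2160 : ℕ) = 2 ^ 4 * 135 by norm_num, Nat.factorization_mul (by norm_num) (by norm_num),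
      Finsupp.add_apply, Nat.prime_two.factorization_pow, Finsupp.single_eq_same,
      Nat.factorization_eq_zero_of_not_dvd (by norm_num : ¬ 2 ∣ 135)]
  rw [h2160] at hc2
  rw [Int.ModEq] at hmod
  push_cast at hb1 hb2 heq
  have hd46 : d ≤ 46 := by nlinarith
  obtain ⟨t, rfl⟩ := hc2
  push_cast at heq
  have hd49 : d = 4 ∧ d' = 3 ∧ s = -1 ∧ ε = -1 ∧ a = 0 ∨ d = 9 ∧ d' = 8 ∧ s = -1 ∧ ε = -1 ∧ a = 1 := by
    rcases hs with rfl | rfl <;> rcases hε with rfl | rfl <;> interval_cases d <;> first
      | omega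
      | (norm_num at hd; done)
      | (have hd47 : d' ≤ 47 := by omega
         interval_cases d' <;> first | omega | (norm_num at hd'; done))
  rcases hd49 with ⟨rfl, rfl, rfl, rfl, rfl⟩ | ⟨rfl, rfl, rfl, rfl, rfl⟩ <;>
    norm_num at heq <;>
    · have ht : (t : ℤ) ≤ 1 ∨ 2 ≤ (t : ℤ) := by omega
      rcases ht with ht | ht <;> nlinarith

theorem ne_3360 (hna : ¬ IsMulCommutative G) : Nat.card G ≠ 3360 := by
  intro h
  haveI : Fact (Nat.Prime 7) := ⟨by norm_num⟩
  haveI : Fact (Nat.Prime 5) := ⟨by norm_num⟩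
  haveI : Fact (Nat.Prime 3) := ⟨by norm_num⟩
  obtain ⟨P⟩ : Nonempty (Sylow 5 G) := inferInstance
  obtain ⟨e, c, hL, hP, he, he1, hep, hC, -⟩ := configs hna (p := 5) (B := 420) h
    [(21, 4, 8), (56, 4, 3), (336, 2, 1)] (by decide +kernel) P
  set N := Subgroup.normalizer ((P : Subgroup G) : Set G) with hN
  have hNidx : N.index = Nat.card (Sylow 5 G) := (Sylow.card_eq_index_normalizer P).symm
  simp only [List.mem_cons, List.not_mem_nil, or_false, Prod.mk.injEq] at hL
  rcases hL with ⟨hn, rfl, rfl⟩ | ⟨hn, rfl, rfl⟩ | ⟨-, rfl, rfl⟩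
  · -- a Sylow 7-subgroup has an involution in its centralizer
    obtain ⟨Q⟩ : Nonempty (Sylow 7 G) := inferInstance
    obtain ⟨e', c', hL', hQ, -, -, -, hCQ, -⟩ := configs hna (p := 7) (B := 420) h [(15, 2, 16), (120, 2, 2)]
      (by decide +kernel) Q
    simp only [List.mem_cons, List.not_mem_nil, or_false, Prod.mk.injEq] at hL'
    rcases hL' with ⟨hn', rfl, rfl⟩ | ⟨-, rfl, rfl⟩
    · exact false_of_two_orbits Q hQ (by rw [hn']) hCQ (by norm_num) (by norm_num)
    obtain ⟨⟨t, htC⟩, ht⟩ := exists_prime_orderOf_dvd_card'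
      (G := Subgroup.centralizer ((Q : Subgroup G) : Set G)) 2 (by rw [hCQ]; norm_num)
    rw [Subgroup.orderOf_mk] at ht
    obtain ⟨⟨u, huQ⟩, hu⟩ := exists_prime_orderOf_dvd_card' (G := (Q : Subgroup G)) 7
      (by rw [show Nat.card (Q : Subgroup G) = 7 from hQ])
    rw [Subgroup.orderOf_mk] at hu
    have hNc : Nat.card N = 160 := by
      have h1 := N.card_mul_index
      rw [hNidx, hn, h] at h1
      omega
    exact false_of_odd_swap hna N (by rw [hNidx, hn]) hu (by rw [hNc]; norm_num) ht
      (Subgroup.mem_centralizer_iff.1 htC u huQ)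
  · -- the subgroup of order three centralizing a Sylow 5-subgroup
    set C := Subgroup.centralizer ((P : Subgroup G) : Set G) with hCdef
    obtain ⟨Rc⟩ : Nonempty (Sylow 3 C) := inferInstance
    have hC' : Nat.card C = 15 := by rw [hC]
    have hRc : Nat.card (Rc : Subgroup C) = 3 := by
      rw [Rc.card_eq_multiplicity, hC', show (15 : ℕ) = 3 ^ 1 * 5 by norm_num,
        Nat.factorization_mul (by norm_num) (by norm_num), Finsupp.add_apply,
        Nat.prime_three.factorization_pow, Finsupp.single_eq_same,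
        Nat.factorization_eq_zero_of_not_dvd (by norm_num : ¬ 3 ∣ 5)]
      norm_num
    have h3fac : (Nat.card G).factorization 3 = 1 := by
      rw [h, show (3360 : ℕ) = 3 ^ 1 * 1120 by norm_num,
        Nat.factorization_mul (by norm_num) (by norm_num), Finsupp.add_apply,
        Nat.prime_three.factorization_pow, Finsupp.single_eq_same,
        Nat.factorization_eq_zero_of_not_dvd (by norm_num : ¬ 3 ∣ 1120)]
    let R : Sylow 3 G := Sylow.ofCard ((Rc : Subgroup C).map C.subtype)
      (by rw [Subgroup.card_map_of_injective C.subtype_injective, hRc, h3fac, pow_one])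
    have hCN : C ≤ N := Subgroup.centralizer_le_normalizer _
    haveI : Subsingleton (Sylow 3 C) := by
      have h1 := Rc.card_dvd_index
      have h2 := (Rc : Subgroup C).card_mul_index
      rw [hRc, hC'] at h2
      rw [show (Rc : Subgroup C).index = 5 by omega] at h1
      have h3 := card_sylow_modEq_one 3 C
      rw [Nat.ModEq] at h3
      rcases (Nat.dvd_prime (by norm_num : (5 : ℕ).Prime)).1 h1 with e | e
      · exact (Nat.card_eq_one_iff_unique.1 e).1
      · rw [e] at h3
        norm_num at h3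
    have hNR : N ≤ Subgroup.normalizer ((R : Subgroup G) : Set G) := by
      intro g hg
      refine Sylow.smul_eq_iff_mem_normalizer.1 ?_
      have hmem : ∀ z : G, z ∈ C → g * z * g⁻¹ ∈ C := by
        intro z hz
        refine Subgroup.mem_centralizer_iff.2 fun b hb => ?_
        have hb' : g⁻¹ * b * g ∈ (P : Subgroup G) := by
          have := (Subgroup.mem_normalizer_iff.1 (N.inv_mem hg) b).1 hb
          simpa using this
        have h1 := Subgroup.mem_centralizer_iff.1 hz _ hb'
        calc b * (g * z * g⁻¹) = g * (g⁻¹ * b * g * z) * g⁻¹ := by group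
          _ = g * (z * (g⁻¹ * b * g)) * g⁻¹ := by rw [h1]
          _ = g * z * g⁻¹ * b := by group
      have hle : ((g • R : Sylow 3 G) : Subgroup G) ≤ C := by
        intro z hz
        rw [Sylow.smul_def, Sylow.pointwise_smul_def] at hz
        obtain ⟨w, hw, rfl⟩ := Subgroup.mem_map.1 hz
        obtain ⟨w', -, rfl⟩ := Subgroup.mem_map.1 hw
        exact hmem _ w'.2
      have hle' : (R : Subgroup G) ≤ C := Subgroup.map_subtype_le _
      exact Sylow.subtype_injective (hP := hle) (hQ := hle') (Subsingleton.elim _ _)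
    set M := Subgroup.normalizer ((R : Subgroup G) : Set G) with hM
    obtain ⟨k, hk0, hk, hkd, hidx, -, hfac⟩ := small_sylow_number hna R (a := 1) (m := 1120)
      (by rw [h]; norm_num) one_ne_zero
    rw [← hM] at hidx
    have hMN : M.index ∣ 56 := hn ▸ hNidx ▸ Subgroup.index_dvd_of_le hNR
    rw [hidx] at hMN
    have hk9 : k = 9 := by
      have : k ≤ 18 := by have := Nat.le_of_dvd (by norm_num) hMN; omega
      rw [h] at hfac
      interval_cases k <;> first | rfl | omega | (norm_num at hMN; done) | (norm_num [Nat.factorial] at hfac; done)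
    subst hk9
    have hNc : Nat.card N = 60 := by
      have h1 := N.card_mul_index
      rw [hNidx, hn, h] at h1
      omega
    have hMc : Nat.card M = 120 := by
      have h1 := M.card_mul_index
      rw [hidx, h] at h1
      omega
    have hPM : (P : Subgroup G) ≤ M := Subgroup.le_normalizer.trans hNR
    have hS := Sylow.card_eq_index_normalizer (P.subtype hPM)
    simp only [← Sylow.coe_coe, Sylow.coe_subtype] at hS
    rw [← Subgroup.subgroupOf_normalizer_eq hPM, ← hN] at hS
    have h2 := (N.subgroupOf M).card_mul_index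
    rw [Nat.card_congr (Subgroup.subgroupOfEquivOfLe hNR).toEquiv, hNc, hMc] at h2
    have h3 := card_sylow_modEq_one 5 M
    rw [hS, show (N.subgroupOf M).index = 2 by omega] at h3
    norm_num [Nat.ModEq] at h3
  · exact false_of_degKill hna (p := 7) (B := 420) h
      (fun d => d % 5 == 0 || (d == 6 || d == 7 || d == 4 || d == 3))
      (self_degrees hna (p := 5) (m := 672) h (by norm_num) (by norm_num) P hP he he1 hep hC (fun _ => true) (B := 420)
        (fun d => d == 6 || d == 7 || d == 4 || d == 3) (fun _ _ => rfl) (by norm_num) (by decide +kernel))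
      (by decide +kernel)

theorem ne_3528 (hna : ¬ IsMulCommutative G) : Nat.card G ≠ 3528 := by
  intro h
  haveI : Fact (Nat.Prime 7) := ⟨by norm_num⟩
  obtain ⟨P⟩ : Nonempty (Sylow 7 G) := inferInstance
  obtain ⟨k, hk0, hk, hkd, -, -, -⟩ := small_sylow_number hna P (a := 2) (m := 72) (by rw [h]; norm_num)
    (by norm_num)
  refine few_false hna (p := 7) (a := 2) (m := 72) h (by norm_num) (by norm_num) le_rfl ?_
  have : k ≤ 10 := by have := Nat.le_of_dvd (by norm_num) hkd; omega
  rw [hk]
  interval_cases k <;> first | (norm_num; done) | (norm_num at hkd; done)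

/-- The intersection with a near Sylow subgroup when there are 36 Sylow 5-subgroups of order 25. -/
theorem near_thirtysix (hna : ¬ IsMulCommutative G) {n m : ℕ} (h : Nat.card G = n) (hn : n = 5 ^ 2 * m)
    (hm : m = 72 ∨ m = 144) [Fact (Nat.Prime 5)] (P : Sylow 5 G) :
    m = 144 ∧ Nat.card (Sylow 5 G) = 36 ∧ ∃ Q ∈ near P,
      Nat.card (Subgroup.normalizer ((((P : Subgroup G) ⊓ (Q : Subgroup G)) : Subgroup G) : Set G)) = 300 ∧
      Nat.card (Sylow 5 (Subgroup.normalizer
        ((((P : Subgroup G) ⊓ (Q : Subgroup G)) : Subgroup G) : Set G))) = 6 := by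
  have hpm : ¬ 5 ∣ m := by rcases hm with rfl | rfl <;> norm_num
  have hP := card_sylow_of (p := 5) (a := 2) h hn hpm P
  obtain ⟨k, hk0, hk, hkd, -, -, hfac⟩ := small_sylow_number hna P (a := 2) (m := m) (by rw [h, hn]) (by norm_num)
  have hm0 : 0 < m := by rcases hm with rfl | rfl <;> norm_num
  have hm144 : m ≤ 144 := by rcases hm with rfl | rfl <;> norm_num
  have hk7 : k = 7 := by
    by_contra h7
    refine few_false hna (p := 5) h hn hpm le_rfl ?_
    rw [hk]
    have hk28 : k ≤ 28 := by
      have := Nat.le_of_dvd hm0 hkd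
      omega
    rcases hm with rfl | rfl <;> interval_cases k <;> first | omega | (norm_num at hkd; done)
  subst hk7
  have hmod := card_modEq_near P
  rw [hk] at hmod
  obtain ⟨Q, hQ⟩ : (near P).Nonempty := by
    rw [Set.nonempty_iff_ne_empty]
    intro e
    rw [e, Set.ncard_empty] at hmod
    norm_num [Nat.ModEq] at hmod
  obtain ⟨hPN, hQN, hne, -⟩ := near_normalizes hQ
  obtain ⟨j, hj, hjlt, hcard, hfac', d, hd, hd5, hd1, hdN⟩ := near_card hna (p := 5) h hn hpm le_rfl hQ
  have hj0 : 0 < j := Nat.pos_of_dvd_of_pos hj hm0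
  have hjd := Nat.le_of_dvd hj0 hd
  have hodd : ∀ k : ℕ, j = 2 * k → ¬ 2 ∣ k → (∀ e, e ∣ k → e % 5 = 1 → e = 1) → False := by
    intro k hk hk2 hone
    exact hne (eq_of_le_of_twice_odd (by norm_num) hPN hQN (k := k) (by rw [hcard, hP, hk]; ring) hk2 hone)
  have hj12 : j ≤ 18 := by
    by_contra hlt
    have hdiv : m / j ≤ 7 := Nat.le_of_lt_succ ((Nat.div_lt_iff_lt_mul hj0).2 (by omega))
    have h1 := hfac'.trans (Nat.factorial_dvd_factorial hdiv)
    rcases hm with rfl | rfl <;> norm_num [hn, Nat.factorial] at h1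
  have hres : m = 144 ∧ j = 12 ∧ d = 6 := by
    have hd18 : d ≤ 18 := by omega
    have h3 : ∀ e, e ∣ 3 → e % 5 = 1 → e = 1 := fun e he he5 => by
      have := Nat.le_of_dvd (by norm_num) he
      omega
    have h9 : ∀ e, e ∣ 9 → e % 5 = 1 → e = 1 := fun e he he5 => by
      have := Nat.le_of_dvd (by norm_num) he
      have : e ≠ 6 := fun e6 => by rw [e6] at he; norm_num at he
      omega
    rcases hm with rfl | rfl <;> interval_cases j <;> interval_cases d <;> first
      | omega
      | (norm_num at hd; done)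
      | (norm_num at hj; done)
      | (norm_num [hn, Nat.factorial] at hfac'; done)
      | exact (hodd 3 rfl (by norm_num) h3).elim
      | exact (hodd 9 rfl (by norm_num) h9).elim
  exact ⟨hres.1, hk, Q, hQ, by rw [hcard, hres.2.1]; norm_num, hdN.symm.trans hres.2.2⟩

theorem ne_1800 (hna : ¬ IsMulCommutative G) : Nat.card G ≠ 1800 := by
  intro h
  haveI : Fact (Nat.Prime 5) := ⟨by norm_num⟩
  obtain ⟨P⟩ : Nonempty (Sylow 5 G) := inferInstance
  obtain ⟨h72, -⟩ := near_thirtysix hna (m := 72) h (by norm_num) (Or.inl rfl) P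
  omega

theorem ne_3600 (hna : ¬ IsMulCommutative G) : Nat.card G ≠ 3600 := by
  classical
  intro h
  haveI : Fact (Nat.Prime 5) := ⟨by norm_num⟩
  haveI : Fact (Nat.Prime 2) := ⟨Nat.prime_two⟩
  obtain ⟨P⟩ : Nonempty (Sylow 5 G) := inferInstance
  obtain ⟨-, hn5, Q, hQ, hN, hS⟩ := near_thirtysix hna (m := 144) h (by norm_num) (Or.inr rfl) P
  have hP := card_sylow_of (p := 5) (a := 2) (m := 144) h (by norm_num) (by norm_num) P
  obtain ⟨hPN, hQN, hne, hDc⟩ := near_normalizes hQ
  set D := (P : Subgroup G) ⊓ (Q : Subgroup G) with hD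
  set N := Subgroup.normalizer (D : Set G) with hNd
  set NP := Subgroup.normalizer ((P : Subgroup G) : Set G) with hNP
  set CP := Subgroup.centralizer ((P : Subgroup G) : Set G) with hCP
  have hcomm : ∀ X : Sylow 5 G, ∀ a ∈ (X : Subgroup G), ∀ b ∈ (X : Subgroup G), a * b = b * a := by
    intro X a ha b hb
    have hX := card_sylow_of (p := 5) (a := 2) (m := 144) h (by norm_num) (by norm_num) X
    haveI := IsPGroup.isMulCommutative_of_card_eq_prime_sq (G := (X : Subgroup G)) hX
    exact congrArg Subtype.val (mul_comm' (⟨a, ha⟩ : (X : Subgroup G)) ⟨b, hb⟩)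
  have hPC : (P : Subgroup G) ≤ CP := fun a ha =>
    Subgroup.mem_centralizer_iff.2 fun b hb => hcomm P b hb a ha
  -- the normalizer centralizes the intersection
  set CD := N ⊓ Subgroup.centralizer (D : Set G) with hCD
  have hPCD : (P : Subgroup G) ≤ CD := le_inf hPN fun a ha =>
    Subgroup.mem_centralizer_iff.2 fun b hb => hcomm P b (inf_le_left (a := (P : Subgroup G)) hb) a ha
  have hQCD : (Q : Subgroup G) ≤ CD := le_inf hQN fun a ha =>
    Subgroup.mem_centralizer_iff.2 fun b hb => hcomm Q b (inf_le_right (b := (Q : Subgroup G)) hb) a ha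
  have hCDle : N ≤ Subgroup.centralizer (D : Set G) := by
    obtain ⟨k, hk⟩ : 5 ^ 2 ∣ Nat.card CD := hP ▸ Subgroup.card_dvd_of_le hPCD
    have hdvd : Nat.card CD ∣ 300 := hN ▸ Subgroup.card_dvd_of_le inf_le_left
    have hk12 : k ∣ 12 := by
      rw [hk, show (300 : ℕ) = 5 ^ 2 * 12 by norm_num] at hdvd
      exact Nat.dvd_of_mul_dvd_mul_left (by norm_num) hdvd
    by_cases hk' : k = 12
    · have heq : CD = N := Subgroup.eq_of_le_of_card_ge inf_le_left (by rw [hk, hk', hN]; norm_num)
      rw [← heq]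
      exact inf_le_right
    exfalso
    have hkle := Nat.le_of_dvd (by norm_num) hk12
    rcases (show k = 6 ∨ k ≤ 4 by interval_cases k <;> omega) with rfl | hk4
    · refine hne (eq_of_le_of_twice_odd (by norm_num) hPCD hQCD (k := 3) (by rw [hk, hP]; norm_num) (by norm_num) ?_)
      intro e he he5
      have := Nat.le_of_dvd (by norm_num) he
      omega
    · refine hne (eq_of_le_of_count hPCD hQCD (k := k) (by rw [hk, hP]) ?_)
      intro e he he5
      have hk0 : k ≠ 0 := fun e0 => by rw [e0, mul_zero] at hk; exact Nat.card_pos.ne' hk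
      have := Nat.le_of_dvd (Nat.pos_of_ne_zero hk0) he
      omega
  -- an element of the normalizer of `P` in `N` outside the centralizer of `P`
  obtain ⟨x, hxN, hxP, hxC⟩ : ∃ x, x ∈ N ∧ x ∈ NP ∧ x ∉ CP := by
    by_contra hcon
    push Not at hcon
    set P' := P.subtype hPN with hP'
    have hle : Subgroup.normalizer ((P' : Subgroup N) : Set N) ≤ Subgroup.centralizer ((P' : Subgroup N) : Set N) := by
      intro g hg
      simp only [hP', ← Sylow.coe_coe, Sylow.coe_subtype] at hg
      rw [← Subgroup.subgroupOf_normalizer_eq hPN] at hg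
      refine Subgroup.mem_centralizer_iff.2 fun b hb => Subtype.ext ?_
      simp only [hP', ← Sylow.coe_coe, Sylow.coe_subtype] at hb
      exact Subgroup.mem_centralizer_iff.1 (hcon g g.2 hg) b hb
    set K := (MonoidHom.transferSylow P' hle).ker with hK
    have hc := (MonoidHom.ker_transferSylow_isComplement' P' hle).card_mul
    have hP'c : Nat.card (P' : Subgroup N) = 25 := by
      rw [hP', Sylow.coe_subtype, Nat.card_congr (Subgroup.subgroupOfEquivOfLe hPN).toEquiv]
      exact hP
    rw [hP'c, hN] at hc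
    have hKc : Nat.card K = 12 := by rw [hK]; omega
    have hS' := P'.card_eq_index_normalizer
    rw [hS] at hS'
    have hNc := (Subgroup.normalizer ((P' : Subgroup N) : Set N)).card_mul_index
    simp only [← Sylow.coe_coe] at hS' hNc
    rw [← hS', hN] at hNc
    have hfix : ∀ (q : ℕ) [Fact q.Prime], 5 ≠ q → q ∣ 12 →
        q ∣ Nat.card (Subgroup.centralizer ((P' : Subgroup N) : Set N)) := by
      intro q _ hq5 hq
      obtain ⟨R, hR, hPR⟩ := Grp.exists_invariant_sylow (P' : Subgroup N) K
        (by rw [Subgroup.normalizer_eq_top]; exact le_top)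
        (by rw [hP'c, hKc]; norm_num) (Or.inl (by
          haveI : IsMulCommutative (P' : Subgroup N) :=
            IsPGroup.isMulCommutative_of_card_eq_prime_sq (p := 5) hP'c
          exact isSolvable_of_comm fun a b => mul_comm' a b)) q
      set R' := R with hR'
      have hRc : Nat.card R' = q ^ (Nat.card K).factorization q := hR.card
      have hqle : q ≤ 3 := by
        have h1 := (Fact.out : q.Prime)
        have := Nat.le_of_dvd (by norm_num) hq
        interval_cases q <;> first | omega | (norm_num at h1; done) | (norm_num at hq; done)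
      have hRle : R' ≤ Subgroup.centralizer ((P' : Subgroup N) : Set N) := by
        have hlt : Nat.card R' < 5 := by
          rw [hRc, hKc]
          have h1 := (Fact.out : q.Prime)
          interval_cases q
          · exact absurd h1 (by norm_num)
          · exact absurd h1 (by norm_num)
          · rw [show (12 : ℕ) = 2 ^ 2 * 3 by norm_num, Nat.factorization_mul (by norm_num) (by norm_num),
              Finsupp.add_apply, Nat.prime_two.factorization_pow, Finsupp.single_eq_same,
              Nat.factorization_eq_zero_of_not_dvd (by norm_num : ¬ 2 ∣ 3)]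
            norm_num
          · rw [show (12 : ℕ) = 3 ^ 1 * 4 by norm_num, Nat.factorization_mul (by norm_num) (by norm_num),
              Finsupp.add_apply, Nat.prime_three.factorization_pow, Finsupp.single_eq_same,
              Nat.factorization_eq_zero_of_not_dvd (by norm_num : ¬ 3 ∣ 4)]
            norm_num
        intro r hr
        refine Subgroup.mem_centralizer_iff.2 fun b hb => ?_
        letI : MulAction (P' : Subgroup N) R' :=
          MulAction.compHom R' (R'.normalizerMonoidHom.comp (Subgroup.inclusion hPR))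
        have h0 := P'.isPGroup'.card_modEq_card_fixedPoints R'
        have hle : Nat.card (MulAction.fixedPoints (P' : Subgroup N) R') ≤ Nat.card R' :=
          Nat.card_le_card_of_injective _ Subtype.val_injective
        have hall : MulAction.fixedPoints (P' : Subgroup N) R' = Set.univ := by
          refine Set.eq_of_subset_of_ncard_le (Set.subset_univ _) ?_ (Set.toFinite _)
          rw [Set.ncard_univ, ← Nat.card_coe_set_eq]
          rw [Nat.ModEq, Nat.mod_eq_of_lt hlt, Nat.mod_eq_of_lt (lt_of_le_of_lt hle hlt)] at h0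
          exact le_of_eq h0
        have h1 : (⟨b, hb⟩ : (P' : Subgroup N)) • (⟨r, hr⟩ : R') = ⟨r, hr⟩ :=
          (hall ▸ Set.mem_univ (⟨r, hr⟩ : R') : (⟨r, hr⟩ : R') ∈ MulAction.fixedPoints (P' : Subgroup N) R') _
        have h2 : b * r * b⁻¹ = r := congrArg Subtype.val h1
        exact mul_inv_eq_iff_eq_mul.1 h2
      exact (Nat.dvd_of_mem_primeFactors (by
        rw [Nat.mem_primeFactors]
        exact ⟨Fact.out, by
          rw [hRc]
          exact dvd_pow_self q ((Nat.Prime.factorization_pos_of_dvd Fact.out (by rw [hKc]; norm_num) (hKc ▸ hq)).ne'),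
          Nat.card_pos.ne'⟩)).trans (Subgroup.card_dvd_of_le hRle)
    haveI : Fact (Nat.Prime 3) := ⟨Nat.prime_three⟩
    have h3 := (hfix 3 (by norm_num) (by norm_num)).trans
      (Subgroup.card_dvd_of_le (Subgroup.centralizer_le_normalizer _))
    rw [show Nat.card (Subgroup.normalizer ((P' : Subgroup N) : Set N)) = 50 by omega] at h3
    norm_num at h3
  -- an element moving the intersection
  have hNPc : Nat.card NP = 100 := by
    have h1 := NP.card_mul_index
    rw [show NP.index = Nat.card (Sylow 5 G) from (Sylow.card_eq_index_normalizer P).symm, hn5, h] at h1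
    omega
  obtain ⟨g, hgP, hgN⟩ : ∃ g, g ∈ NP ∧ g ∉ N := by
    by_contra hcon
    push Not at hcon
    have h1 := Subgroup.card_dvd_of_le (show NP ≤ N from hcon)
    have hS' := Sylow.card_eq_index_normalizer (P.subtype hPN)
    simp only [← Sylow.coe_coe, Sylow.coe_subtype] at hS'
    rw [← Subgroup.subgroupOf_normalizer_eq hPN, hS] at hS'
    have h2 := (NP.subgroupOf N).card_mul_index
    rw [← hS', Nat.card_congr (Subgroup.subgroupOfEquivOfLe hcon).toEquiv, hNPc, hN] at h2
    omega
  -- the automizer of `P` is abelian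
  have hCNP : CP ≤ NP := Subgroup.centralizer_le_normalizer _
  haveI : (CP.subgroupOf NP).Normal := by
    rw [hCP, hNP]
    exact Subgroup.normal_subgroupOf_centralizer_normalizer _
  have hidx : (CP.subgroupOf NP).index ∣ 4 := by
    have h1 := (CP.subgroupOf NP).card_mul_index
    rw [Nat.card_congr (Subgroup.subgroupOfEquivOfLe hCNP).toEquiv, hNPc] at h1
    obtain ⟨k, hk⟩ : 5 ^ 2 ∣ Nat.card CP := hP ▸ Subgroup.card_dvd_of_le hPC
    rw [hk] at h1
    exact ⟨k, by nlinarith⟩
  have hab : ∀ a b : NP ⧸ CP.subgroupOf NP, a * b = b * a := by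
    have hq : Nat.card (NP ⧸ CP.subgroupOf NP) ∣ 2 ^ 2 := by
      rw [← Subgroup.index_eq_card]; exact hidx
    obtain ⟨i, hi, hi'⟩ := (Nat.dvd_prime_pow Nat.prime_two).1 hq
    interval_cases i
    · intro a b
      haveI := (Nat.card_eq_one_iff_unique.1 hi').1
      exact Subsingleton.elim _ _
    · haveI : IsCyclic (NP ⧸ CP.subgroupOf NP) := isCyclic_of_prime_card (p := 2) hi'
      intro a b
      exact mul_comm' a b
    · haveI := IsPGroup.isMulCommutative_of_card_eq_prime_sq (G := NP ⧸ CP.subgroupOf NP) hi'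
      intro a b
      exact mul_comm' a b
  have hgx : g * x * g⁻¹ * x⁻¹ ∈ CP := by
    have := hab (QuotientGroup.mk ⟨g, hgP⟩) (QuotientGroup.mk ⟨x, hxP⟩)
    have h2 : (⟨g, hgP⟩ : NP) * ⟨x, hxP⟩ * ⟨g, hgP⟩⁻¹ * ⟨x, hxP⟩⁻¹ ∈ CP.subgroupOf NP := by
      rw [← QuotientGroup.eq_one_iff, QuotientGroup.mk_mul, QuotientGroup.mk_mul, QuotientGroup.mk_mul,
        QuotientGroup.mk_inv, QuotientGroup.mk_inv, this]
      group
    exact h2
  -- it centralizes two different subgroups of order five
  set Z := Subgroup.centralizer ({x} : Set G) with hZ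
  have hDZ : D ≤ Z := fun a ha => Subgroup.mem_centralizer_singleton_iff.2
    (Subgroup.mem_centralizer_iff.1 (hCDle hxN) a ha)
  have hgD : D.map (MulAut.conj g).toMonoidHom ≤ Z := by
    rintro _ ⟨a, ha, rfl⟩
    show g * a * g⁻¹ ∈ Z
    refine Subgroup.mem_centralizer_singleton_iff.2 ?_
    have hga : g * a * g⁻¹ ∈ (P : Subgroup G) :=
      (Subgroup.mem_normalizer_iff.1 hgP a).1 (inf_le_left (b := (Q : Subgroup G)) ha)
    have h1 := Subgroup.mem_centralizer_iff.1 hgx _ hga
    have h2 := Subgroup.mem_centralizer_iff.1 (hCDle hxN) a ha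
    have h3 : g * x * g⁻¹ * (g * a * g⁻¹) = g * a * g⁻¹ * (g * x * g⁻¹) := by
      calc g * x * g⁻¹ * (g * a * g⁻¹) = g * (x * a) * g⁻¹ := by group
        _ = g * (a * x) * g⁻¹ := by rw [h2]
        _ = g * a * g⁻¹ * (g * x * g⁻¹) := by group
    set y := g * a * g⁻¹
    set z := g * x * g⁻¹ * x⁻¹ with hz
    have hxz : x = z⁻¹ * (g * x * g⁻¹) := by rw [hz]; group
    have hyz : Commute y z := h1
    set w := g * x * g⁻¹ with hw
    calc y * x = y * (z⁻¹ * w) := congrArg (y * ·) hxz
      _ = z⁻¹ * (y * w) := by rw [← mul_assoc, hyz.inv_right.eq, mul_assoc]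
      _ = z⁻¹ * (w * y) := by rw [h3]
      _ = z⁻¹ * w * y := (mul_assoc _ _ _).symm
      _ = x * y := congrArg (· * y) hxz.symm
  refine hxC ?_
  have hlt : D < D ⊔ D.map (MulAut.conj g).toMonoidHom := by
    refine lt_of_le_of_ne le_sup_left fun e => hgN ?_
    have hle : D.map (MulAut.conj g).toMonoidHom ≤ D := le_sup_right.trans (le_of_eq e.symm)
    have heq : D.map (MulAut.conj g).toMonoidHom = D := Subgroup.eq_of_le_of_card_ge hle
      (le_of_eq (Subgroup.card_map_of_injective (MulAut.conj g).injective).symm)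
    refine Subgroup.mem_normalizer_iff.2 fun a => ⟨fun ha => heq ▸ ⟨a, ha, rfl⟩, fun ha => ?_⟩
    have ha' : g * a * g⁻¹ ∈ D.map (MulAut.conj g).toMonoidHom := heq.symm ▸ ha
    obtain ⟨b, hb, hb'⟩ := Subgroup.mem_map.1 ha'
    rwa [(MulAut.conj g).injective hb'] at hb
  have hle : D ⊔ D.map (MulAut.conj g).toMonoidHom ≤ (P : Subgroup G) := by
    refine sup_le inf_le_left ?_
    rintro _ ⟨a, ha, rfl⟩
    exact (Subgroup.mem_normalizer_iff.1 hgP a).1 (inf_le_left (b := (Q : Subgroup G)) ha)
  have hD5 : Nat.card D = 5 := by rw [hP] at hDc; omega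
  have hall : (P : Subgroup G) ≤ Z := by
    have hsup : D ⊔ D.map (MulAut.conj g).toMonoidHom = (P : Subgroup G) := by
      refine Subgroup.eq_of_le_of_card_ge hle ?_
      have h1 : Nat.card (D ⊔ D.map (MulAut.conj g).toMonoidHom : Subgroup G) ∣ 5 ^ 2 :=
        hP ▸ Subgroup.card_dvd_of_le hle
      have h2 := Set.ncard_lt_ncard (SetLike.coe_ssubset_coe.2 hlt) (Set.toFinite _)
      rw [← Nat.card_coe_set_eq, ← Nat.card_coe_set_eq] at h2
      change Nat.card D < Nat.card (D ⊔ D.map (MulAut.conj g).toMonoidHom : Subgroup G) at h2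
      obtain ⟨i, hi, hi'⟩ := (Nat.dvd_prime_pow (by norm_num)).1 h1
      rw [hi', hD5] at h2
      rw [show Nat.card (P : Subgroup G) = 5 ^ 2 from hP, hi']
      interval_cases i <;> omega
    rw [← hsup]
    exact sup_le hDZ hgD
  exact Subgroup.mem_centralizer_iff.2 fun a ha => Subgroup.mem_centralizer_singleton_iff.1 (hall ha)

/-- The orders of non-abelian simple groups between 1093 and 3640. -/
theorem mid_orders (hna : ¬ IsMulCommutative G) (h1 : 1093 ≤ Nat.card G) (h2 : Nat.card G ≤ 3640) :
    Nat.card G = 2448 ∨ Nat.card G = 2520 ∨ Nat.card G = 3420 := by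
  have hcand : midCand (Nat.card G) = true := by
    simp only [midCand, Bool.or_eq_true, Bool.and_eq_true, beq_iff_eq, List.any_cons,
      List.any_nil, Bool.or_false]
    by_cases he : 2 ∣ Nat.card G
    · rcases Fus.even_simple_dvd hna (even_iff_two_dvd.2 he) with h | h | h <;> omega
    · obtain ⟨p, hp, hp2, hp3, -⟩ := Fus.SmallOrd.odd_cube hna he
      have hle : p ≤ 15 := by
        by_contra hlt
        have h16 := Nat.pow_le_pow_left (show 16 ≤ p by omega) 3
        have := Nat.le_of_dvd Nat.card_pos hp3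
        omega
      have hmod := Nat.mod_eq_zero_of_dvd hp3
      refine Or.inr ⟨by omega, ?_⟩
      have := hp.two_le
      obtain rfl | rfl | rfl | rfl | rfl : p = 3 ∨ p = 5 ∨ p = 7 ∨ p = 11 ∨ p = 13 := by
        interval_cases p <;> first | omega | (norm_num at hp; done)
      all_goals tauto
  rcases mid_cover (by omega) (by omega) hcand with hh | ⟨L, hL, hn⟩
  swap
  · exact (false_of_list hna L hL hn).elim
  simp only [midHard, List.mem_cons, List.not_mem_nil, or_false] at hh
  have hbig : 168 < Nat.card G := by omega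
  have s4 : ∀ p q a b : ℕ, p.Prime → q.Prime → p ≠ q → a ≤ 2 → Nat.card G ≠ 4 * p ^ a * q ^ b :=
    fun p q a b hp hq hpq ha e => ne_small_shape hna p q a b hp hq hpq ha (Or.inl e) hbig
  have s3 : ∀ p q a b : ℕ, p.Prime → q.Prime → p ≠ q → a ≤ 2 → Nat.card G ≠ 3 * p ^ a * q ^ b :=
    fun p q a b hp hq hpq ha e => ne_small_shape hna p q a b hp hq hpq ha (Or.inr e) hbig
  rcases hh with h | h | h | h | h | h | h | h | h | h | h | h | h | h | h | h | h
  · exact (ne_1260 hna h).elim
  · exact (s3 7 2 1 6 (by norm_num) Nat.prime_two (by norm_num) (by norm_num) (by rw [h]; norm_num)).elim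
  · exact (s4 13 3 1 3 (by norm_num) Nat.prime_three (by norm_num) (by norm_num) (by rw [h]; norm_num)).elim
  · exact (ne_1512 hna h).elim
  · exact (s4 5 3 1 4 (by norm_num) Nat.prime_three (by norm_num) (by norm_num) (by rw [h]; norm_num)).elim
  · exact (ne_1680 hna h).elim
  · exact (s4 7 3 2 2 (by norm_num) Nat.prime_three (by norm_num) le_rfl (by rw [h]; norm_num)).elim
  · exact (ne_1800 hna h).elim
  · exact (ne_2160 hna h).elim
  · exact (s3 5 2 2 5 (by norm_num) Nat.prime_two (by norm_num) le_rfl (by rw [h]; norm_num)).elim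
  · exact Or.inl h
  · exact Or.inr (Or.inl h)
  · exact (s4 5 3 2 3 (by norm_num) Nat.prime_three (by norm_num) le_rfl (by rw [h]; norm_num)).elim
  · exact (ne_3360 hna h).elim
  · exact Or.inr (Or.inr h)
  · exact (ne_3528 hna h).elim
  · exact (ne_3600 hna h).elim

end Cfsg.Agent.Block.SmallOrd
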