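import Mathlib
import Cfsg.Agent.Lib.Block.SmallOrd.Kill

/-!
Certificates for the orders between 3641 and 6232.
-/

set_option autoImplicit false

namespace Cfsg.Agent.Block.SmallOrd

def certs0 : List (ℕ × Cert) := [
  (3645, .two 3 6 5 1), (3648, .deg 19), (3660, .large 61), (3664, .two 2 4 229 1), (3672, .syl 17 1), (3680, .large 23),
  (3684, .large 307), (3696, .deg 11), (3699, .two 3 3 137 1), (3708, .large 103), (3712, .two 2 7 29 1), (3720, .large 31),
  (3728, .two 2 4 233 1), (3732, .large 311), (3744, .deg 13), (3752, .large 67), (3753, .two 3 3 139 1), (3756, .large 313),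
  (3760, .large 47), (3768, .large 157), (3773, .two 7 3 11 1), (3776, .two 2 6 59 1), (3780, .deg 5), (3792, .large 79),
  (3804, .large 317), (3807, .two 3 4 47 1), (3808, .syl 17 1), (3816, .large 53), (3824, .two 2 4 239 1), (3828, .large 29),
  (3840, .deg 5), (3852, .large 107), (3856, .two 2 4 241 1), (3861, .syl 11 1), (3864, .large 23), (3872, .two 2 5 11 2),
  (3875, .two 5 3 31 1), (3876, .syl 19 1), (3888, .two 2 4 3 5), (3900, .deg 13), (3904, .two 2 6 61 1), (3912, .large 163),
  (3915, .large 29), (3920, .syl 7 2), (3924, .large 109), (3936, .large 41), (3948, .large 47), (3952, .syl 19 1),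
  (3960, .deg 11), (3968, .two 2 7 31 1), (3969, .two 3 4 7 2), (3972, .large 331), (3976, .large 71), (3984, .large 83),
  (3993, .two 3 1 11 3), (3996, .large 37), (4000, .two 2 5 5 3), (4008, .large 167), (4016, .two 2 4 251 1), (4020, .large 67),
  (4023, .two 3 3 149 1), (4044, .large 337), (4048, .large 23), (4056, .syl 13 2)]

theorem certs0_ok : (certs0.all fun x => check x.1 x.2) = true := by decide +kernel

def certs1 : List (ℕ × Cert) := [
  (4064, .two 2 5 127 1), (4068, .large 113), (4077, .two 3 3 151 1), (4088, .large 73), (4092, .large 31), (4096, .two 2 12 3 0),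
  (4104, .syl 19 1), (4112, .two 2 4 257 1), (4116, .syl 7 3), (4125, .syl 5 3), (4128, .large 43), (4131, .two 3 5 17 1),
  (4140, .large 23), (4144, .large 37), (4152, .large 173), (4160, .deg 13), (4164, .large 347), (4176, .large 29),
  (4185, .large 31), (4188, .large 349), (4192, .two 2 5 131 1), (4208, .two 2 4 263 1), (4212, .deg 13), (4224, .syl 11 1),
  (4236, .large 353), (4239, .two 3 3 157 1), (4240, .large 53), (4248, .large 59), (4256, .syl 19 1), (4260, .large 71),
  (4272, .large 89), (4284, .syl 17 1), (4288, .two 2 6 67 1), (4293, .two 3 4 53 1), (4296, .large 179), (4304, .two 2 4 269 1),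
  (4308, .large 359), (4312, .deg 11), (4332, .syl 19 2), (4336, .two 2 4 271 1), (4344, .large 181), (4347, .large 23),
  (4352, .two 2 8 17 1), (4356, .syl 11 2), (4368, .syl 13 1), (4375, .two 5 4 7 1), (4380, .large 73), (4384, .two 2 5 137 1),
  (4392, .large 61), (4400, .deg 11), (4401, .two 3 3 163 1), (4404, .large 367), (4416, .large 23), (4424, .large 79),
  (4428, .large 41), (4432, .two 2 4 277 1), (4440, .large 37), (4448, .two 2 5 139 1), (4452, .large 53), (4455, .deg 11),
  (4459, .two 7 3 13 1), (4464, .large 31), (4476, .large 373), (4480, .deg 7)]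

theorem certs1_ok : (certs1.all fun x => check x.1 x.2) = true := by decide +kernel

def certs2 : List (ℕ × Cert) := [
  (4488, .syl 17 1), (4496, .two 2 4 281 1), (4509, .two 3 3 167 1), (4512, .large 47), (4524, .large 29), (4528, .two 2 4 283 1),
  (4536, .deg 7), (4544, .two 2 6 71 1), (4548, .large 379), (4560, .syl 19 1), (4563, .two 3 3 13 2), (4572, .large 127),
  (4576, .syl 11 1), (4584, .large 191), (4592, .large 41), (4596, .large 383), (4608, .two 2 9 3 2), (4617, .two 3 5 19 1),
  (4624, .two 2 4 17 2), (4625, .two 5 3 37 1), (4632, .large 193), (4640, .large 29), (4644, .large 43), (4648, .large 83),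
  (4656, .large 97), (4668, .large 389), (4671, .two 3 3 173 1), (4672, .two 2 6 73 1), (4680, .deg 13), (4688, .two 2 4 293 1),
  (4692, .large 23), (4704, .syl 7 2), (4716, .large 131), (4720, .large 59), (4725, .deg 7), (4728, .large 197),
  (4736, .two 2 7 37 1), (4740, .large 79), (4752, .deg 11), (4760, .deg 17), (4764, .large 397), (4768, .two 2 5 149 1),
  (4776, .large 199), (4779, .two 3 4 59 1), (4784, .large 23), (4788, .syl 19 1), (4800, .deg 3), (4812, .large 401),
  (4816, .large 43), (4824, .large 67), (4832, .two 2 5 151 1), (4833, .two 3 3 179 1), (4836, .large 31), (4848, .large 101),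
  (4860, .syl 3 5), (4864, .two 2 8 19 1), (4872, .large 29), (4875, .syl 13 1), (4880, .large 61), (4884, .large 37),
  (4887, .two 3 3 181 1), (4896, .syl 17 1), (4908, .large 409), (4912, .two 2 4 307 1)]

theorem certs2_ok : (certs2.all fun x => check x.1 x.2) = true := by decide +kernel

def certs3 : List (ℕ × Cert) := [
  (4913, .two 17 3 2 0), (4920, .large 41), (4928, .deg 11), (4932, .large 137), (4941, .two 3 4 61 1), (4944, .large 103),
  (4956, .large 59), (4960, .large 31), (4968, .large 23), (4976, .two 2 4 311 1), (4980, .large 83), (4984, .large 89),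
  (4992, .syl 13 1), (4995, .large 37), (5004, .large 139), (5008, .two 2 4 313 1), (5016, .syl 19 1), (5024, .two 2 5 157 1),
  (5028, .large 419), (5049, .syl 17 1), (5052, .large 421), (5056, .two 2 6 79 1), (5064, .large 211), (5072, .two 2 4 317 1),
  (5076, .large 47), (5088, .large 53), (5096, .syl 7 2), (5100, .syl 17 1), (5103, .two 3 6 7 1), (5104, .large 29),
  (5112, .large 71), (5120, .two 2 10 5 1), (5124, .large 61), (5125, .two 5 3 41 1), (5136, .large 107), (5145, .syl 7 3),
  (5148, .deg 13), (5152, .large 23), (5157, .two 3 3 191 1), (5160, .large 43), (5168, .syl 19 1), (5172, .large 431),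
  (5184, .two 2 6 3 4), (5196, .large 433), (5200, .deg 13), (5208, .large 31), (5211, .two 3 3 193 1), (5216, .two 2 5 163 1),
  (5220, .large 29), (5232, .large 109), (5244, .large 23), (5248, .two 2 7 41 1), (5256, .large 73), (5264, .large 47),
  (5265, .deg 13), (5268, .large 439), (5280, .syl 11 1), (5296, .two 2 4 331 1), (5304, .syl 13 1), (5312, .two 2 6 83 1),
  (5316, .large 443), (5319, .two 3 3 197 1), (5320, .syl 19 1), (5328, .large 37)]

theorem certs3_ok : (certs3.all fun x => check x.1 x.2) = true := by decide +kernel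

def certs4 : List (ℕ × Cert) := [
  (5340, .large 89), (5344, .two 2 5 167 1), (5352, .large 223), (5360, .large 67), (5364, .large 149), (5373, .two 3 3 199 1),
  (5375, .two 5 3 43 1), (5376, .deg 7), (5388, .large 449), (5392, .two 2 4 337 1), (5408, .two 2 5 13 2), (5412, .large 41),
  (5424, .large 113), (5427, .two 3 4 67 1), (5432, .large 97), (5436, .large 151), (5440, .syl 17 1), (5448, .large 227),
  (5456, .large 31), (5472, .deg 19), (5481, .large 29), (5484, .large 457), (5488, .two 2 4 7 3), (5496, .large 229),
  (5504, .two 2 7 43 1), (5508, .deg 17), (5520, .large 23), (5532, .large 461), (5535, .large 41), (5536, .two 2 5 173 1),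
  (5544, .deg 11), (5552, .two 2 4 347 1), (5556, .large 463), (5568, .large 29), (5580, .large 31), (5584, .two 2 4 349 1),
  (5589, .two 3 5 23 1), (5592, .large 233), (5600, .deg 7), (5604, .large 467), (5625, .two 3 2 5 4), (5628, .large 67),
  (5632, .two 2 9 11 1), (5640, .large 47), (5643, .syl 19 1), (5648, .two 2 4 353 1), (5652, .large 157), (5656, .large 101),
  (5664, .large 59), (5676, .large 43), (5680, .large 71), (5688, .large 79), (5696, .two 2 6 89 1), (5697, .two 3 3 211 1),
  (5700, .syl 19 1), (5712, .syl 17 1), (5724, .large 53), (5728, .two 2 5 179 1), (5736, .large 239), (5744, .two 2 4 359 1),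
  (5748, .large 479), (5751, .two 3 4 71 1), (5768, .large 103), (5772, .large 37)]

theorem certs4_ok : (certs4.all fun x => check x.1 x.2) = true := by decide +kernel

def certs5 : List (ℕ × Cert) := [
  (5776, .two 2 4 19 2), (5784, .large 241), (5792, .two 2 5 181 1), (5796, .large 23), (5805, .large 43), (5808, .syl 11 2),
  (5820, .large 97), (5824, .syl 13 1), (5831, .two 7 3 17 1), (5832, .two 2 3 3 6), (5840, .large 73), (5844, .large 487),
  (5856, .large 61), (5859, .large 31), (5868, .large 163), (5872, .two 2 4 367 1), (5875, .two 5 3 47 1), (5880, .deg 5),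
  (5888, .two 2 8 23 1), (5892, .large 491), (5904, .large 41), (5913, .two 3 4 73 1), (5916, .large 29), (5920, .large 37),
  (5928, .deg 19), (5936, .large 53), (5940, .deg 11), (5952, .large 31), (5964, .large 71), (5967, .syl 17 1),
  (5968, .two 2 4 373 1), (5976, .large 83), (5984, .syl 17 1), (5988, .large 499), (5992, .large 107), (6012, .large 167),
  (6016, .two 2 7 47 1), (6021, .two 3 3 223 1), (6024, .large 251), (6032, .large 29), (6036, .large 503), (6060, .large 101),
  (6064, .two 2 4 379 1), (6075, .two 3 5 5 2), (6080, .syl 19 1), (6084, .syl 13 2), (6096, .large 127), (6104, .large 109),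
  (6108, .large 509), (6112, .two 2 5 191 1), (6120, .deg 17), (6125, .two 5 3 7 2), (6128, .two 2 4 383 1), (6129, .two 3 3 227 1),
  (6132, .large 73), (6144, .two 2 11 3 1), (6156, .deg 19), (6160, .deg 11), (6168, .large 257), (6176, .two 2 5 193 1),
  (6180, .large 103), (6183, .two 3 3 229 1), (6192, .large 43), (6204, .large 47)]

theorem certs5_ok : (certs5.all fun x => check x.1 x.2) = true := by decide +kernel

def certs6 : List (ℕ × Cert) := [
  (6208, .two 2 6 97 1), (6216, .large 37), (6224, .two 2 4 389 1), (6228, .large 173)]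

theorem certs6_ok : (certs6.all fun x => check x.1 x.2) = true := by decide +kernel

/-- The orders left to separate arguments. -/
def hardOrders : List ℕ := [4032, 4080, 4200, 4320, 4500, 4620, 5040, 5292, 5400, 5460, 5616, 5760, 6000, 6048, 6072]

/-- The orders that can occur for a simple group by elementary congruences. -/
def candB (n : ℕ) : Bool := n % 12 == 0 || n % 16 == 0 || n % 56 == 0 || (n % 2 == 1 &&
  ([3, 5, 7, 11, 13, 17].any fun p => n % (p ^ 3) == 0))

/-- An order is excluded by congruences, is hard, or is certified. -/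
def coverB (n : ℕ) : Bool :=
  !candB n || hardOrders.contains n || certs0.any (fun x => x.1 == n) || certs1.any (fun x => x.1 == n) || certs2.any (fun x => x.1 == n) || certs3.any (fun x => x.1 == n) || certs4.any (fun x => x.1 == n) || certs5.any (fun x => x.1 == n) || certs6.any (fun x => x.1 == n)

theorem certs_cover : ((List.range 2592).all fun i => coverB (3641 + i)) = true := by decide +kernel

attribute [local irreducible] certs0 certs1 certs2 certs3 certs4 certs5 certs6 hardOrders candB coverB in
/-- The orders between 3641 and 6232 with the congruence conditions: hard, or in a certified list. -/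
theorem cover {n : ℕ} (h1 : 3641 ≤ n) (h2 : n ≤ 6232) (hc : candB n = true) :
    n ∈ hardOrders ∨ ∃ L : List (ℕ × Cert), (L.all fun x => check x.1 x.2) = true ∧
      (L.any fun x => x.1 == n) = true := by
  have hall := List.all_eq_true.1 certs_cover (n - 3641) (List.mem_range.2 (by omega))
  rw [show 3641 + (n - 3641) = n by omega] at hall
  unfold coverB at hall
  rw [hc, Bool.not_true, Bool.false_or] at hall
  simp only [Bool.or_eq_true, List.contains_iff_mem] at hall
  rcases hall with ((((((h | h) | h) | h) | h) | h) | h) | h
  · exact Or.inl h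
  · exact Or.inr ⟨certs0, certs0_ok, h⟩
  · exact Or.inr ⟨certs1, certs1_ok, h⟩
  · exact Or.inr ⟨certs2, certs2_ok, h⟩
  · exact Or.inr ⟨certs3, certs3_ok, h⟩
  · exact Or.inr ⟨certs4, certs4_ok, h⟩
  · exact Or.inr ⟨certs5, certs5_ok, h⟩
  · exact Or.inr ⟨certs6, certs6_ok, h⟩

end Cfsg.Agent.Block.SmallOrd
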